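import Mathlib.RingTheory.Smooth.IntegralClosure
import Mathlib.RingTheory.Etale.Field
import Mathlib.RingTheory.Etale.Basic
import Mathlib.RingTheory.Artinian.Ring
import Mathlib.RingTheory.IntegralClosure.IntegrallyClosed
import Mathlib.RingTheory.Localization.FractionRing
import Mathlib.RingTheory.TensorProduct.Finite
import Mathlib.RingTheory.Smooth.Flat
import Mathlib.RingTheory.Flat.Basic
import Mathlib.RingTheory.Unramified.Field
import Mathlib.Algebra.Group.Pi.Units

set_option autoImplicit false

/-!
Étale algebras over a normal domain.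
-/

noncomputable section

universe u

open scoped TensorProduct

namespace Groth.Agent.FinMult

theorem mem_range_of_isIntegral {R : Type u} [CommRing R] [IsDomain R] [IsIntegrallyClosed R] (K : Type u) [Field K]
    [Algebra R K] [IsFractionRing R K] {S : Type u} [CommRing S] [Algebra R S] [Algebra.Smooth R S] {w : S ⊗[R] K}
    (hw : IsIntegral S w) : ∃ s : S, s ⊗ₜ[R] (1 : K) = w := by
  obtain ⟨z, hz⟩ := (TensorProduct.toIntegralClosure_bijective_of_smooth (R := R) (S := S) (B := K)).2 ⟨w, hw⟩
  have hz' : Algebra.TensorProduct.map (AlgHom.id S S) (integralClosure R K).val z = w := congrArg Subtype.val hz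
  subst hz'
  clear hz hw
  induction z using TensorProduct.induction_on with
  | zero => exact ⟨0, by simp⟩
  | add a b ha hb =>
    obtain ⟨s, hs⟩ := ha
    obtain ⟨t, ht⟩ := hb
    exact ⟨s + t, by rw [TensorProduct.add_tmul, hs, ht, map_add]⟩
  | tmul s y =>
    obtain ⟨r, hr⟩ := IsIntegrallyClosed.isIntegral_iff.1 y.2
    refine ⟨r • s, ?_⟩
    rw [Algebra.TensorProduct.map_tmul, AlgHom.id_apply, Subalgebra.val_apply, ← hr, TensorProduct.smul_tmul,
      ← Algebra.algebraMap_eq_smul_one]

theorem mem_range_of_idempotent {R : Type u} [CommRing R] [IsDomain R] [IsIntegrallyClosed R] (K : Type u) [Field K]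
    [Algebra R K] [IsFractionRing R K] {S : Type u} [CommRing S] [Algebra R S] [Algebra.Smooth R S] {w : S ⊗[R] K}
    (hw : IsIdempotentElem w) : ∃ s : S, s ⊗ₜ[R] (1 : K) = w :=
  mem_range_of_isIntegral K ⟨Polynomial.X ^ 2 - Polynomial.X, Polynomial.monic_X_pow_sub (Polynomial.degree_X_le.trans_lt (by norm_num)), by
    simp [pow_two, hw.eq]⟩

theorem isField_of_idempotents {A : Type u} [CommRing A] [IsArtinianRing A] [IsReduced A] [Nontrivial A]
    (h : ∀ e : A, IsIdempotentElem e → e = 0 ∨ e = 1) : IsField A := by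
  classical
  let φ := IsArtinianRing.equivPi A
  have hsub : Subsingleton (MaximalSpectrum A) := ⟨fun I J => by
    by_contra hne
    rcases h (φ.symm (Pi.single I 1)) ((show IsIdempotentElem
      (Pi.single I 1 : Π K : MaximalSpectrum A, A ⧸ K.asIdeal) by
        show (_ : Π K : MaximalSpectrum A, A ⧸ K.asIdeal) * _ = _
        rw [← Pi.single_mul, one_mul]).map φ.symm) with h0 | h1
    · have hh := congrFun (congrArg φ h0) I
      haveI : Nontrivial (A ⧸ I.asIdeal) := Ideal.Quotient.nontrivial_iff.2 I.isMaximal.ne_top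
      have e1 : (Pi.single I 1 : Π K : MaximalSpectrum A, A ⧸ K.asIdeal) I = (0 : Π K : MaximalSpectrum A, A ⧸ K.asIdeal) I :=
        ((congrFun (φ.apply_symm_apply _) I).symm.trans hh).trans (congrFun (map_zero φ) I)
      rw [Pi.single_eq_same] at e1
      exact one_ne_zero e1
    · have hh := congrFun (congrArg φ h1) J
      haveI : Nontrivial (A ⧸ J.asIdeal) := Ideal.Quotient.nontrivial_iff.2 J.isMaximal.ne_top
      have e1 : (Pi.single I 1 : Π K : MaximalSpectrum A, A ⧸ K.asIdeal) J = (1 : Π K : MaximalSpectrum A, A ⧸ K.asIdeal) J :=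
        ((congrFun (φ.apply_symm_apply _) J).symm.trans hh).trans (congrFun (map_one φ) J)
      rw [Pi.single_eq_of_ne (Ne.symm hne)] at e1
      exact zero_ne_one e1⟩
  refine ⟨exists_pair_ne A, mul_comm, fun {x} hx => ?_⟩
  have hu : IsUnit (φ x) := by
    refine Pi.isUnit_iff.2 fun I => ?_
    letI := Ideal.Quotient.field I.asIdeal
    refine Ne.isUnit fun h0 => hx (φ.injective ?_)
    rw [map_zero]
    funext J
    obtain rfl := hsub.elim I J
    exact h0
  obtain ⟨y, hy⟩ := (isUnit_map_iff φ x).1 hu |>.exists_right_inv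
  exact ⟨y, hy⟩

/-- A connected finite étale algebra over a normal domain is a normal domain. -/
theorem isDomain_and_isIntegrallyClosed {R : Type u} [CommRing R] [IsDomain R] [IsIntegrallyClosed R] (T : Type u)
    [CommRing T] [Algebra R T] [Module.Finite R T] [Algebra.Etale R T] [Nontrivial T]
    (hT : ∀ e : T, IsIdempotentElem e → e = 0 ∨ e = 1) : IsDomain T ∧ IsIntegrallyClosed T := by
  let K := FractionRing R
  haveI : Module.Flat R T := inferInstance
  let W := K ⊗[R] T
  let c : K ⊗[R] T ≃ₐ[R] T ⊗[R] K := Algebra.TensorProduct.comm R K T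
  let ι : T →ₐ[R] K ⊗[R] T := Algebra.TensorProduct.includeRight
  have hι : Function.Injective ι := by
    have h1 : Function.Injective (Algebra.TensorProduct.includeLeft : T →ₐ[R] T ⊗[R] K) :=
      Algebra.TensorProduct.includeLeft_injective (S := R) (IsFractionRing.injective R K)
    intro x y hxy
    apply h1
    have := congrArg c hxy
    simpa [c, ι] using this
  have hidem : ∀ e : K ⊗[R] T, IsIdempotentElem e → e = 0 ∨ e = 1 := fun e he => by
    obtain ⟨s, hs⟩ := mem_range_of_idempotent K (he.map c)
    have hes : ι s = e := c.injective (by rw [← hs]; simp [c, ι])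
    have hss : IsIdempotentElem s := hι (by rw [map_mul, hes]; exact he.eq)
    rcases hT s hss with h | h
    · left; rw [← hes, h, map_zero]
    · right; rw [← hes, h, map_one]
  haveI : Algebra.Etale K (K ⊗[R] T) := inferInstance
  haveI : IsReduced (K ⊗[R] T) := Algebra.FormallyUnramified.isReduced_of_field K _
  haveI : IsArtinianRing (K ⊗[R] T) := IsArtinianRing.of_finite K _
  haveI : Nontrivial (K ⊗[R] T) := hι.nontrivial
  have hF := isField_of_idempotents hidem
  haveI : IsDomain T := by
    haveI := hF.isDomain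
    exact hι.isDomain (ι : T →+* K ⊗[R] T)
  refine ⟨inferInstance, ?_⟩
  letI := hF.toField
  letI : Algebra T (K ⊗[R] T) := Algebra.TensorProduct.rightAlgebra
  haveI : IsFractionRing T (K ⊗[R] T) :=
    { map_units := fun t => IsUnit.mk0 _ fun h0 => nonZeroDivisors.ne_zero t.2 (hι (h0.trans (map_zero ι).symm))
      surj := fun z => by
        induction z using TensorProduct.induction_on with
        | zero => exact ⟨⟨0, 1⟩, by simp⟩
        | add a b ha hb =>
          obtain ⟨⟨x, s⟩, hx⟩ := ha
          obtain ⟨⟨y, t⟩, hy⟩ := hb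
          refine ⟨⟨x * t + y * s, s * t⟩, ?_⟩
          simp only [Submonoid.coe_mul, map_mul, map_add] at hx hy ⊢
          linear_combination (algebraMap T (K ⊗[R] T) (t : T)) * hx + (algebraMap T (K ⊗[R] T) (s : T)) * hy
        | tmul k t =>
          obtain ⟨⟨a, b⟩, hab⟩ := IsLocalization.surj (nonZeroDivisors R) k
          have hb : algebraMap R T b ∈ nonZeroDivisors T := by
            refine mem_nonZeroDivisors_of_ne_zero fun h0 => nonZeroDivisors.ne_zero b.2 ?_
            have := congrArg ι h0
            rw [AlgHom.commutes, map_zero, IsScalarTower.algebraMap_apply R K (K ⊗[R] T)] at this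
            exact IsFractionRing.injective R K
              ((map_eq_zero_iff _ (algebraMap K (K ⊗[R] T)).injective).1 this |>.trans (map_zero _).symm)
          refine ⟨⟨a • t, ⟨_, hb⟩⟩, ?_⟩
          show (k ⊗ₜ[R] t) * ((1 : K) ⊗ₜ[R] algebraMap R T b) = (1 : K) ⊗ₜ[R] (a • t)
          rw [Algebra.TensorProduct.tmul_mul_tmul, mul_one, Algebra.algebraMap_eq_smul_one, mul_smul_comm, mul_one,
            ← TensorProduct.smul_tmul, ← TensorProduct.smul_tmul, Algebra.smul_def, mul_comm, hab,
            ← Algebra.algebraMap_eq_smul_one]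
      exists_of_eq := fun {x y} h => ⟨1, by rw [show x = y from hι h]⟩ }
  refine (isIntegrallyClosed_iff (K ⊗[R] T)).2 fun {x} hx => ?_
  obtain ⟨p, hp, hp0⟩ := hx
  have hint : IsIntegral T (c x) := by
    refine ⟨p, hp, ?_⟩
    have e : algebraMap T (T ⊗[R] K) = (c : K ⊗[R] T →+* T ⊗[R] K).comp (algebraMap T (K ⊗[R] T)) :=
      RingHom.ext fun t => by
        show t ⊗ₜ[R] (1 : K) = c ((1 : K) ⊗ₜ[R] t)
        simp [c]
    show Polynomial.eval₂ (algebraMap T (T ⊗[R] K)) ((c : K ⊗[R] T →+* T ⊗[R] K) x) p = 0
    rw [e, ← Polynomial.hom_eval₂]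
    exact (congrArg _ hp0).trans (map_zero _)
  obtain ⟨s, hs⟩ := mem_range_of_isIntegral K hint
  exact ⟨s, c.injective (by rw [← hs]; simp [c, RingHom.algebraMap_toAlgebra])⟩

end Groth.Agent.FinMult
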