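import Mathlib.LinearAlgebra.FreeModule.PID
import Mathlib.Algebra.Module.Torsion.Basic
import Mathlib.RingTheory.Coprime.Lemmas
import Mathlib.Tactic.Module
import Mathlib.Tactic.LinearCombination
import Mathlib.RingTheory.Int.Basic

set_option autoImplicit false

/-!
An automorphism of finite order of a finitely generated abelian group congruent to the identity modulo `3e` is trivial.
-/

namespace Groth.Agent.FinMult

universe u

variable {M : Type u} [AddCommGroup M]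

theorem exists_torsion_exponent [Module.Finite ℤ M] :
    ∃ e : ℕ, 0 < e ∧ ∀ t : M, (∃ n : ℕ, 0 < n ∧ n • t = 0) → e • t = 0 := by
  classical
  let Tor := Submodule.torsion ℤ M
  haveI : IsNoetherian ℤ M := inferInstance
  obtain ⟨s, hs⟩ := (IsNoetherian.noetherian Tor : Tor.FG)
  have hmem : ∀ x ∈ s, ∃ n : ℕ, 0 < n ∧ n • x = 0 := fun x hx => by
    obtain ⟨a, ha⟩ := (Submodule.mem_torsion_iff x).1 (hs ▸ Submodule.subset_span hx : x ∈ Tor)
    refine ⟨(a : ℤ).natAbs, Int.natAbs_pos.2 (nonZeroDivisors.ne_zero a.2), ?_⟩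
    rw [← natCast_zsmul]
    rcases Int.natAbs_eq (a : ℤ) with h | h
    · rw [← h]; exact ha
    · rw [show ((a : ℤ).natAbs : ℤ) = -(a : ℤ) by omega, neg_zsmul, show (a : ℤ) • x = 0 from ha, neg_zero]
  choose n hn hnx using hmem
  refine ⟨∏ x ∈ s.attach, n x.1 x.2, Finset.prod_pos fun x _ => hn x.1 x.2, fun t ht => ?_⟩
  obtain ⟨k, hk, hkt⟩ := ht
  have htor : t ∈ Tor := (Submodule.mem_torsion_iff t).2
    ⟨⟨(k : ℤ), mem_nonZeroDivisors_of_ne_zero (by exact_mod_cast hk.ne')⟩, by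
      show (k : ℤ) • t = 0
      rw [natCast_zsmul, hkt]⟩
  rw [← hs] at htor
  clear hkt
  induction htor using Submodule.span_induction with
  | mem x hx =>
    obtain ⟨c, hc⟩ := Finset.dvd_prod_of_mem (fun x : {x // x ∈ s} => n x.1 x.2) (Finset.mem_attach s ⟨x, hx⟩)
    rw [hc, mul_comm, mul_nsmul', hnx x hx, nsmul_zero]
  | zero => simp
  | add x y _ _ hx hy => rw [nsmul_add, hx, hy, add_zero]
  | smul a x _ hx => rw [smul_comm, hx, smul_zero]

theorem eq_zero_of_divisible [Module.Finite ℤ M] {e : ℕ} (he : ∀ t : M, (∃ n : ℕ, 0 < n ∧ n • t = 0) → e • t = 0)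
    (he0 : 0 < e) {x : M} (hx : ∀ k : ℕ, ∃ y, x = (3 ^ k * e : ℤ) • y) : x = 0 := by
  classical
  let Tor := Submodule.torsion ℤ M
  haveI : Module.Free ℤ (M ⧸ Tor) := inferInstance
  let b := Module.Free.chooseBasis ℤ (M ⧸ Tor)
  have hxt : Tor.mkQ x = 0 := by
    refine b.ext_elem fun i => ?_
    rw [map_zero, Finsupp.zero_apply]
    set c := b.repr (Tor.mkQ x) i
    obtain ⟨y, hy⟩ := hx c.natAbs
    have hdvd : (3 ^ c.natAbs : ℤ) ∣ c := by
      generalize c.natAbs = n at hy ⊢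
      refine ⟨e * b.repr (Tor.mkQ y) i, ?_⟩
      simp only [c]
      rw [hy, map_smul, map_smul, Finsupp.smul_apply, smul_eq_mul]
      ring
    refine Int.eq_zero_of_dvd_of_natAbs_lt_natAbs hdvd ?_
    rw [Int.natAbs_pow]
    exact Nat.lt_pow_self (by norm_num)
  rw [Submodule.mkQ_apply, Submodule.Quotient.mk_eq_zero] at hxt
  obtain ⟨⟨a, ha⟩, hax⟩ := (Submodule.mem_torsion_iff x).1 hxt
  obtain ⟨y, hy⟩ := hx 0
  rw [pow_zero, one_mul, natCast_zsmul] at hy
  have hay : (a * e : ℤ) • y = 0 := by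
    rw [mul_zsmul, natCast_zsmul, ← hy]
    exact hax
  rw [hy]
  refine he y ⟨(a * e : ℤ).natAbs, Int.natAbs_pos.2 (mul_ne_zero (nonZeroDivisors.ne_zero ha) (by exact_mod_cast he0.ne')), ?_⟩
  rw [← natCast_zsmul]
  rcases Int.natAbs_eq (a * e : ℤ) with h | h
  · rw [← h]; exact hay
  · rw [show ((a * e : ℤ).natAbs : ℤ) = -(a * e : ℤ) by omega, neg_zsmul, hay, neg_zero]

variable [Module.Finite ℤ M] {e : ℕ}

theorem eq_self_of_prime (he0 : 0 < e) (he : ∀ t : M, (∃ n : ℕ, 0 < n ∧ n • t = 0) → e • t = 0) (τ : M →+ M) {ℓ : ℕ}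
    (hℓ : ℓ.Prime) (hτ : ∀ m, τ^[ℓ] m = m) (hc : ∀ m, ∃ y, τ m - m = (3 * e : ℤ) • y) (m : M) : τ m = m := by
  let δ : M → M := fun m => τ m - m
  have step : ∀ k : ℕ, 1 ≤ k → (∀ m, ∃ y, δ m = (3 ^ k * e : ℤ) • y) →
      ∀ m, ∃ y, δ m = (3 ^ (k + 1) * e : ℤ) • y := by
    intro k hk h m
    have h2 : ∀ x, ∃ y, δ (δ x) = (3 ^ (k + k) * e : ℤ) • y := fun x => by
      obtain ⟨y, hy⟩ := h x
      obtain ⟨z, hz⟩ := h y
      refine ⟨(e : ℤ) • z, ?_⟩
      have e2 : δ ((3 ^ k * e : ℤ) • y) = (3 ^ k * e : ℤ) • δ y := by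
        show τ _ - _ = _
        rw [map_zsmul, ← smul_sub]
      rw [hy, e2, hz, smul_smul, smul_smul, pow_add]
      congr 1
      ring
    have key : ∀ n : ℕ, ∃ y, τ^[n] m - m - (n : ℤ) • δ m = (3 ^ (k + k) * e : ℤ) • y := by
      intro n
      induction n with
      | zero => exact ⟨0, by simp⟩
      | succ n ih =>
        obtain ⟨y, hy⟩ := ih
        obtain ⟨z, hz⟩ := h2 m
        refine ⟨τ y + (n : ℤ) • z, ?_⟩
        rw [smul_add, ← map_zsmul, ← hy, smul_comm, ← hz, Function.iterate_succ_apply', map_sub, map_sub, map_zsmul]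
        simp only [δ, map_sub, Nat.cast_succ]
        module
    rcases eq_or_ne ℓ 3 with rfl | h3
    · obtain ⟨y, hy⟩ := h m
      obtain ⟨z, hz⟩ := h2 m
      obtain ⟨w, hw⟩ := h2 (δ m)
      obtain ⟨v, hv⟩ := h2 y
      have e3 : (3 : ℤ) • δ m + (3 : ℤ) • δ (δ m) + δ (δ (δ m)) = 0 := by
        have h0 := hτ m
        simp only [Function.iterate_succ_apply', Function.iterate_zero_apply] at h0
        simp only [δ, map_sub]
        linear_combination (norm := module) h0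
      have e4 : δ (δ (δ m)) = (3 ^ k * e : ℤ) • δ (δ y) := by
        rw [hy]
        simp only [δ, map_zsmul, map_sub, smul_sub]
      obtain ⟨j, hj⟩ : ∃ j, k + k = k + 1 + j := ⟨k - 1, by omega⟩
      obtain ⟨i, hi⟩ : ∃ i, k + (k + k) = k + 2 + i := ⟨k + k - 2, by omega⟩
      refine ⟨-((3 ^ j : ℤ) • z + (3 ^ i * e : ℤ) • v), ?_⟩
      rw [e4, hv, hz, smul_smul, smul_smul] at e3
      have e5 : (3 : ℤ) * (3 ^ (k + k) * e) = 3 * (3 ^ (k + 1) * e) * 3 ^ j := by rw [hj, pow_add]; ring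
      have e6 : (3 ^ k * e : ℤ) * (3 ^ (k + k) * e) = 3 * (3 ^ (k + 1) * e) * (3 ^ i * e) := by
        calc (3 ^ k * e : ℤ) * (3 ^ (k + k) * e) = 3 ^ (k + (k + k)) * e * e := by ring
          _ = _ := by rw [hi]; ring
      rw [e5, e6, mul_smul, mul_smul] at e3
      set r := δ m + (3 ^ (k + 1) * e : ℤ) • ((3 ^ j : ℤ) • z + (3 ^ i * e : ℤ) • v) with hr
      have h3r : (3 : ℤ) • r = 0 := by
        rw [hr]
        linear_combination (norm := module) e3
      have hre : ∃ y', r = (e : ℤ) • y' := ⟨(3 ^ k : ℤ) • y + (3 ^ (k + 1) : ℤ) • ((3 ^ j : ℤ) • z + (3 ^ i * e : ℤ) • v), by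
        rw [hr, hy, smul_add (e : ℤ), smul_smul, smul_smul, mul_comm (e : ℤ) (3 ^ k), mul_comm (e : ℤ) (3 ^ (k + 1))]⟩
      obtain ⟨y', hy'⟩ := hre
      have hr0 : r = 0 := by
        rw [hy', natCast_zsmul]
        refine he y' ⟨3 * e, by omega, ?_⟩
        rw [← natCast_zsmul, Nat.cast_mul, mul_smul, ← hy']
        exact h3r
      rw [hr] at hr0
      rw [smul_neg]
      exact eq_neg_of_add_eq_zero_left hr0
    · obtain ⟨y, hy⟩ := key ℓ
      rw [hτ, sub_self, zero_sub] at hy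
      have hcop : IsCoprime (ℓ : ℤ) (3 ^ (k + k)) := by
        refine IsCoprime.pow_right ?_
        rw [Int.isCoprime_iff_gcd_eq_one, show Int.gcd (ℓ : ℤ) 3 = Nat.gcd ℓ 3 from rfl]
        exact (Nat.coprime_primes hℓ Nat.prime_three).2 h3
      obtain ⟨a, b, hab⟩ := hcop
      obtain ⟨y₀, hy₀⟩ := h m
      obtain ⟨j, hj⟩ : ∃ j, k + k = k + 1 + j := ⟨k - 1, by omega⟩
      refine ⟨(-a * 3 ^ j) • y + (b * 3 ^ j * 3 ^ k) • y₀, ?_⟩
      have : δ m = a • ((ℓ : ℤ) • δ m) + (b * 3 ^ (k + k)) • δ m := by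
        rw [smul_smul, ← add_smul, hab, one_smul]
      rw [this, ← neg_neg ((ℓ : ℤ) • δ m), hy, hy₀, hj, pow_add]
      module
  have hall : ∀ k : ℕ, ∀ m, ∃ y, δ m = (3 ^ (k + 1) * e : ℤ) • y := by
    intro k
    induction k with
    | zero => intro m; simpa using hc m
    | succ k ih => exact step (k + 1) (by omega) ih
  have := eq_zero_of_divisible he he0 (x := δ m) fun k => by
    obtain ⟨y, hy⟩ := hall k m
    exact ⟨(3 : ℤ) • y, by rw [hy, smul_smul, pow_succ]; congr 1; ring⟩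
  exact sub_eq_zero.1 this

theorem eq_self_of_congr (he0 : 0 < e) (he : ∀ t : M, (∃ n : ℕ, 0 < n ∧ n • t = 0) → e • t = 0) {d : ℕ} (hd : 0 < d)
    (τ : M →+ M) (hτ : ∀ m, τ^[d] m = m) (hc : ∀ m, ∃ y, τ m - m = (3 * e : ℤ) • y) (m : M) : τ m = m := by
  induction d using Nat.strong_induction_on generalizing τ m with
  | _ d ih =>
    rcases eq_or_ne d 1 with rfl | h1
    · simpa using hτ m
    obtain ⟨ℓ, hℓ, q, rfl⟩ : ∃ ℓ, ℓ.Prime ∧ ℓ ∣ d := Nat.exists_prime_and_dvd h1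
    have hq : 0 < q := Nat.pos_of_mul_pos_left hd
    obtain ⟨σ, hσ⟩ : ∃ σ : M →+ M, ∀ x, σ x = τ^[q] x :=
      ⟨{ toFun := τ^[q], map_zero' := iterate_map_zero τ q, map_add' := iterate_map_add τ q }, fun x => rfl⟩
    have hσc : ∀ x, ∃ y, σ x - x = (3 * e : ℤ) • y := fun x => by
      rw [hσ]
      clear hσ ih hτ hd hq h1
      induction q with
      | zero => exact ⟨0, by simp⟩
      | succ q ihq =>
        obtain ⟨y, hy⟩ := ihq
        obtain ⟨z, hz⟩ := hc (τ^[q] x)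
        refine ⟨z + y, ?_⟩
        rw [Function.iterate_succ_apply', smul_add, ← hy, ← hz]
        abel
    have hσid : ∀ x, σ x = x := fun x => eq_self_of_prime he0 he σ hℓ (fun x => by
      rw [show (σ : M → M) = τ^[q] from funext hσ, ← Function.iterate_mul, mul_comm]
      exact hτ x) hσc x
    exact ih q (by nlinarith [hℓ.two_le]) hq τ (fun x => (hσ x).symm.trans (hσid x)) hc m

end Groth.Agent.FinMult
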