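import Groth.Agent.HomLiftLib.Idem
import Groth.Prelude.Def_SGA3b
import Mathlib.RingTheory.HopfAlgebra.Quotient
import Mathlib.RingTheory.Bialgebra.Convolution

set_option autoImplicit false

/-!
The torsion ideal of a commutative affine group is a Hopf ideal.
-/

noncomputable section

universe u

open scoped TensorProduct
open WithConv

namespace Groth.Agent.FinMult

variable {k : Type u} [CommRing k] {A : Type u} [CommRing A] [HopfAlgebra k A]

theorem isHopfIdeal_map_aug [Coalgebra.IsCocomm k A] (φ : A →ₐc[k] A) :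
    (Ideal.map (φ : A →+* A) (RingHom.ker (Bialgebra.counitAlgHom k A))).IsHopfIdeal k := by
  set J := Ideal.map (φ : A →+* A) (RingHom.ker (Bialgebra.counitAlgHom k A))
  have hq : ∀ b, Ideal.Quotient.mk J (φ b) = algebraMap k (A ⧸ J) (Coalgebra.counit (R := k) b) := fun b => by
    rw [← Ideal.Quotient.mk_algebraMap, Ideal.Quotient.eq]
    have : φ b - algebraMap k A (Coalgebra.counit (R := k) b) =
        φ (b - algebraMap k A (Coalgebra.counit (R := k) b)) := by rw [map_sub, AlgHomClass.commutes]
    rw [this]
    exact Ideal.mem_map_of_mem (φ : A →+* A) (RingHom.mem_ker.2 (by simp))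
  have hε : J ≤ RingHom.ker (Bialgebra.counitAlgHom k A) := Ideal.map_le_iff_le_comap.2 fun b hb => by
    rw [Ideal.mem_comap, RingHom.mem_ker]
    show Coalgebra.counit (R := k) (φ b) = 0
    rw [CoalgHomClass.counit_comp_apply]
    exact hb
  let M : A →ₐ[k] (A ⧸ J) ⊗[k] (A ⧸ J) :=
    (Algebra.TensorProduct.map (Ideal.Quotient.mkₐ k J) (Ideal.Quotient.mkₐ k J)).comp (Bialgebra.comulAlgHom k A)
  have hM : J ≤ RingHom.ker M := Ideal.map_le_iff_le_comap.2 fun b hb => by
    rw [Ideal.mem_comap, RingHom.mem_ker]
    show Algebra.TensorProduct.map (Ideal.Quotient.mkₐ k J) (Ideal.Quotient.mkₐ k J)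
      (CoalgebraStruct.comul (R := k) (φ b)) = 0
    rw [← CoalgHomClass.map_comp_comul_apply φ]
    have key : ∀ z : A ⊗[k] A, Algebra.TensorProduct.map (Ideal.Quotient.mkₐ k J) (Ideal.Quotient.mkₐ k J)
        (TensorProduct.map (φ : A →ₗ[k] A) (φ : A →ₗ[k] A) z) = algebraMap k _ (Coalgebra.counit (R := k)
          (TensorProduct.lid k A (LinearMap.rTensor A (Coalgebra.counit (R := k)) z))) := fun z => by
      induction z using TensorProduct.induction_on with
      | zero => simp
      | add x y hx hy => simp only [map_add, hx, hy]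
      | tmul p q =>
        rw [TensorProduct.map_tmul, Algebra.TensorProduct.map_tmul, Ideal.Quotient.mkₐ_eq_mk,
          show Ideal.Quotient.mk J ((φ : A →ₗ[k] A) p) = _ from hq p,
          show Ideal.Quotient.mk J ((φ : A →ₗ[k] A) q) = _ from hq q, LinearMap.rTensor_tmul, TensorProduct.lid_tmul,
          map_smul, smul_eq_mul]
        simp [Algebra.algebraMap_eq_smul_one, TensorProduct.smul_tmul', smul_smul, mul_comm,
          Algebra.TensorProduct.one_def]
    rw [key, Coalgebra.rTensor_counit_comul, TensorProduct.lid_tmul, one_smul]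
    rw [show Coalgebra.counit (R := k) b = 0 from hb, map_zero]
  have hS : J ≤ J.comap (HopfAlgebra.antipodeAlgHom k A) := Ideal.map_le_iff_le_comap.2 fun b hb => by
    rw [Ideal.mem_comap, Ideal.mem_comap]
    show HopfAlgebraStruct.antipode (R := k) (φ b) ∈ J
    rw [← HomLift.map_antipode]
    refine Ideal.mem_map_of_mem (φ : A →+* A) ?_
    rw [RingHom.mem_ker] at hb ⊢
    simpa [HopfAlgebra.counit_antipode] using hb
  haveI : (J.restrictScalars k).IsCoideal := by
    refine ⟨fun x hx => hε hx, fun x hx => ?_⟩
    let e := (Submodule.Quotient.restrictScalarsEquiv k J).symm.toLinearMap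
    have h : ∀ z : A ⊗[k] A, TensorProduct.map (J.restrictScalars k).mkQ (J.restrictScalars k).mkQ z =
        TensorProduct.map e e (Algebra.TensorProduct.map (Ideal.Quotient.mkₐ k J) (Ideal.Quotient.mkₐ k J) z) :=
      fun z => by
        induction z using TensorProduct.induction_on with
        | zero => simp
        | add x y hx hy => simp only [map_add, hx, hy]
        | tmul p q => rfl
    rw [h]
    have h0 : M x = 0 := hM hx
    exact (congrArg (TensorProduct.map e e) h0).trans (map_zero _)
  exact ⟨fun x hx => hS hx⟩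

theorem isHopfIdeal_torsionIdeal [Coalgebra.IsCocomm k A] (n : ℕ) : (SGA3b.torsionIdeal k A n).IsHopfIdeal k := by
  let φ := ((toConv (BialgHom.id k A)) ^ n).ofConv
  have e : φ.toAlgHom = SGA3b.powConv k A n :=
    congrArg WithConv.ofConv (BialgHom.toAlgHom_convPow (toConv (BialgHom.id k A)) n)
  have h := isHopfIdeal_map_aug φ
  rw [SGA3b.torsionIdeal, ← e]
  exact h

end Groth.Agent.FinMult
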