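import Groth.Agent.FinMultLib.Isotriv
import Groth.Agent.FinMultLib.TorsionHopf
import Groth.Agent.FinMultLib.NormalEtale
import Groth.Agent.FinMultLib.Minkowski
import Groth.Agent.DiagHopfLib.FieldDesc
import Groth.Agent.QIsoLib.Main
import Groth.Agent.QIsoLib.ModNil

set_option autoImplicit false

/-!
Groups of multiplicative type and finite type over a normal domain are isotrivial.
-/

noncomputable section

universe u

open scoped TensorProduct
open Groth.Agent.TorusField Groth.Agent.DiagHopf

namespace Groth.Agent.FinMult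

variable {R : Type u} [CommRing R] {A : Type u} [CommRing A] [HopfAlgebra R A]

theorem flat_of_isMultType (hA : SGA3b.IsMultType R A) : Module.Flat R A := by
  classical
  obtain ⟨s, hs, H⟩ := exists_cover_split hA
  haveI : ∀ g : s, IsLocalizedModule (Submonoid.powers g.1) (TensorProduct.mk R (Localization.Away g.1) A 1) := fun g =>
    (isLocalizedModule_iff_isBaseChange (Submonoid.powers g.1) (Localization.Away g.1) _).2
      (TensorProduct.isBaseChange R A (Localization.Away g.1))
  refine Module.flat_of_isLocalized_span R A s hs (fun g : s => Localization.Away g.1 ⊗[R] A)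
    (fun g => TensorProduct.mk R (Localization.Away g.1) A 1) fun g => ?_
  obtain ⟨S, _, _, _, _, N, _, hff, ⟨E⟩⟩ := H g.1 g.2
  haveI := hff
  obtain ⟨E'⟩ := exists_split_transfer' (R' := Localization.Away g.1) E
  haveI := Groth.Agent.QIso.flat_of_split E'
  haveI : Module.Flat R (Localization.Away g.1) := IsLocalization.flat _ (Submonoid.powers g.1)
  exact Module.Flat.trans R (Localization.Away g.1) _

theorem repr_of_push {S S' : Type u} [CommRing S] [Algebra R S] [CommRing S'] [Algebra R S'] {ι : Type u}
    (b : Module.Basis ι S (S ⊗[R] A)) (b' : Module.Basis ι S' (S' ⊗[R] A)) (f : S →ₐ[R] S')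
    (hb : ∀ i, b' i = push f (b i)) (z : S ⊗[R] A) (i : ι) : b'.repr (push f z) i = f (b.repr z i) := by
  classical
  conv_lhs => rw [← b.linearCombination_repr z]
  simp only [Finsupp.linearCombination_apply, Finsupp.sum, map_sum, push_smul, ← hb, map_smul,
    Module.Basis.repr_self, Finsupp.coe_finsetSum, Finset.sum_apply, Finsupp.smul_single, smul_eq_mul, mul_one,
    Finsupp.single_apply, Finset.sum_ite_eq']
  split_ifs with h
  · rfl
  · rw [Finsupp.notMem_support_iff.1 h, map_zero]

theorem push_idem {S S' S'' : Type u} [CommRing S] [Algebra R S] [CommRing S'] [Algebra R S'] [CommRing S'']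
    [Algebra R S''] (f : S →ₐ[R] S') (g : S' →ₐ[R] S'') (x : S ⊗[R] A) :
    push g (push f x) = push (g.comp f) x := by
  induction x using TensorProduct.induction_on with
  | zero => simp
  | add a b ha hb => simp only [map_add, ha, hb]
  | tmul s a => simp [push]

theorem eq_zero_of_etale_cover {T : Type u} [CommRing T] (s : Set T) (hs : Ideal.span s = ⊤) (S : s → Type u)
    [∀ g, CommRing (S g)] [∀ g, Algebra T (S g)] [∀ g : s, Algebra (Localization.Away g.1) (S g)]
    [∀ g : s, IsScalarTower T (Localization.Away g.1) (S g)] [∀ g : s, Module.FaithfullyFlat (Localization.Away g.1) (S g)]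
    {Q : Type u} [AddCommGroup Q] [Module T Q] {q : Q} (h : ∀ g, (1 : S g) ⊗ₜ[T] q = 0) : q = 0 := by
  haveI : ∀ g : s, IsLocalizedModule (Submonoid.powers g.1) (TensorProduct.mk T (Localization.Away g.1) Q 1) := fun g =>
    (isLocalizedModule_iff_isBaseChange (Submonoid.powers g.1) (Localization.Away g.1) _).2
      (TensorProduct.isBaseChange T Q (Localization.Away g.1))
  refine Module.eq_of_isLocalized_span s hs (fun g : s => Localization.Away g.1 ⊗[T] Q)
    (fun g => TensorProduct.mk T (Localization.Away g.1) Q 1) q 0 fun g => ?_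
  rw [map_zero]
  refine Module.FaithfullyFlat.tensorProduct_mk_injective (A := Localization.Away g.1) (B := S g) _ ?_
  apply (TensorProduct.AlgebraTensorModule.cancelBaseChange T (Localization.Away g.1) (S g) (S g) Q).injective
  simpa using h g

/-- A splitting at the generic point of a normal base extends. -/
theorem exists_split_of_generic {T : Type u} [CommRing T] [IsDomain T] [IsIntegrallyClosed T] [Algebra R T]
    (K : Type u) [Field K] [Algebra T K] [IsFractionRing T K] [Algebra R K] [IsScalarTower R T K]
    [Module.Flat R A] {M : Type u} [AddCommGroup M] (EK : Split R A M K)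
    (s : Set T) (hs : Ideal.span s = ⊤)
    (hcov : ∀ g ∈ s, ∃ (S : Type u) (_ : CommRing S) (_ : Algebra T S) (_ : Algebra R S) (_ : IsScalarTower R T S)
      (_ : Algebra (Localization.Away g) S) (_ : IsScalarTower T (Localization.Away g) S) (N : Type u) (_ : AddCommGroup N),
      Algebra.Etale T S ∧ Module.FaithfullyFlat (Localization.Away g) S ∧ Nonempty (Split R A N S)) :
    Nonempty (Split R A M T) := by
  classical
  choose S i1 i2 i3 i4 i5 i6 N i7 het hff hE using fun g : s => hcov g.1 g.2
  letI := i1; letI := i2; letI := i3; letI := i4; letI := i5; letI := i6; letI := i7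
  haveI := het; haveI := hff
  let E : ∀ g, Split R A (N g) (S g) := fun g => (hE g).some
  let ιK : T →ₐ[R] K := IsScalarTower.toAlgHom R T K
  have hιK : Function.Injective (push (A := A) ιK) :=
    Module.Flat.rTensor_preserves_injective_linearMap (M := A) ιK.toLinearMap (IsFractionRing.injective T K)
  -- the comparison rings
  let i₁ : ∀ g, S g →ₐ[R] S g ⊗[T] K := fun g =>
    (Algebra.TensorProduct.includeLeft : S g →ₐ[T] S g ⊗[T] K).restrictScalars R
  let i₂ : ∀ g, K →ₐ[R] S g ⊗[T] K := fun g =>
    (Algebra.TensorProduct.includeRight : K →ₐ[T] S g ⊗[T] K).restrictScalars R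
  have hi₁ : ∀ g, Function.Injective (push (A := A) (i₁ g)) := fun g =>
    Module.Flat.rTensor_preserves_injective_linearMap (M := A) (i₁ g).toLinearMap
      (Algebra.TensorProduct.includeLeft_injective (S := T) (IsFractionRing.injective T K))
  choose EW hEW using fun g => exists_split_push (E g) (i₁ g)
  choose EV hEV using fun g => exists_split_push EK (i₂ g)
  -- each generic group-like element is integral
  have hgl : ∀ g m, ∃ z : S g ⊗[R] A, push (i₁ g) z = push (i₂ g) (EK.e m) := by
    intro g m
    let x := push (i₂ g) (EK.e m)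
    have hx : IsGL R A (S g ⊗[T] K) x := (EK.gl m).push _
    have hid : ∀ b, IsIdempotentElem ((EW g).e.repr x b) := fun b => by
      have := (EW g).repr_idem hx b b
      rwa [if_pos rfl] at this
    choose t ht using fun b => mem_range_of_idempotent (S := S g) K (hid b)
    refine ⟨∑ b ∈ ((EW g).e.repr x).support, t b • (E g).e b, ?_⟩
    conv_rhs => rw [show push (i₂ g) (EK.e m) = x from rfl, ← (EW g).e.linearCombination_repr x,
      Finsupp.linearCombination_apply, Finsupp.sum]
    rw [map_sum]
    refine Finset.sum_congr rfl fun b _ => ?_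
    rw [push_smul, ← hEW, ← ht b]
    rfl
  have hmem : ∀ m, ∃ a : T ⊗[R] A, push ιK a = EK.e m := by
    intro m
    let ι : T ⊗[R] A →ₗ[T] K ⊗[R] A := TensorProduct.AlgebraTensorModule.map (Algebra.linearMap T K) LinearMap.id
    have hι : ∀ z, ι z = push ιK z := fun z => by
      induction z using TensorProduct.induction_on with
      | zero => simp
      | add p q hp hq => simp only [map_add, hp, hq]
      | tmul p q => simp [ι, push, ιK]
    suffices h : Submodule.Quotient.mk (p := LinearMap.range ι) (EK.e m) = 0 by
      obtain ⟨a, ha⟩ := (Submodule.Quotient.mk_eq_zero _).1 h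
      exact ⟨a, by rw [← hι, ha]⟩
    refine eq_zero_of_etale_cover s hs S fun g => ?_
    obtain ⟨z, hz⟩ := hgl g m
    let θ := TensorProduct.AlgebraTensorModule.assoc R T T (S g) K A
    have h2 : ∀ w : K ⊗[R] A, θ (push (i₂ g) w) = (1 : S g) ⊗ₜ[T] w := fun w => by
      induction w using TensorProduct.induction_on with
      | zero => simp
      | add p q hp hq => simp only [map_add, TensorProduct.tmul_add, hp, hq]
      | tmul p q => simp [θ, push, i₂]
    have h1 : ∀ w : S g ⊗[R] A, θ (push (i₁ g) w) ∈ LinearMap.range (ι.lTensor (S g)) := fun w => by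
      induction w using TensorProduct.induction_on with
      | zero => simp
      | add p q hp hq => simp only [map_add]; exact add_mem hp hq
      | tmul p q => exact ⟨p ⊗ₜ[T] ((1 : T) ⊗ₜ[R] q), by simp [θ, push, i₁, ι]⟩
    obtain ⟨w, hw⟩ := h1 z
    rw [hz, h2] at hw
    have h3 : ((LinearMap.range ι).mkQ).lTensor (S g) ((1 : S g) ⊗ₜ[T] EK.e m) = 0 := by
      rw [← hw, ← LinearMap.comp_apply, ← LinearMap.lTensor_comp, show (LinearMap.range ι).mkQ ∘ₗ ι = 0 from
        LinearMap.range_le_ker_iff.1 (by rw [Submodule.ker_mkQ]), LinearMap.lTensor_zero, LinearMap.zero_apply]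
    simpa using h3
  choose a ha using hmem
  have hagl : ∀ m, IsGL R A T (a m) := fun m =>
    IsGL.of_push ιK (IsFractionRing.injective T K) (by rw [ha]; exact EK.gl m)
  have hli : LinearIndependent T a := by
    have h1 : LinearIndependent T fun m => EK.e m :=
      EK.e.linearIndependent.restrict_scalars (by
        intro p q hpq
        exact IsFractionRing.injective T K (by simpa [Algebra.smul_def] using hpq))
    let ι : T ⊗[R] A →ₗ[T] K ⊗[R] A := TensorProduct.AlgebraTensorModule.map (Algebra.linearMap T K) LinearMap.id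
    have hι : ∀ z, ι z = push ιK z := fun z => by
      induction z using TensorProduct.induction_on with
      | zero => simp
      | add p q hp hq => simp only [map_add, hp, hq]
      | tmul p q => simp [ι, push, ιK]
    refine LinearIndependent.of_comp ι ?_
    rwa [show (ι ∘ a) = fun m => EK.e m from funext fun m => by rw [Function.comp_apply, hι, ha]]
  have hspan : ⊤ ≤ Submodule.span T (Set.range a) := fun x _ => by
    rw [← Submodule.Quotient.mk_eq_zero]
    refine eq_zero_of_etale_cover s hs S fun g => ?_
    let ιS : T →ₐ[R] S g := IsScalarTower.toAlgHom R T (S g)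
    have hW : ∀ z : T ⊗[R] A, push (i₁ g) (push ιS z) = push (i₂ g) (push ιK z) := fun z => by
      rw [push_idem, push_idem]
      refine congrArg (fun f => push (A := A) f z) (AlgHom.ext fun t => ?_)
      show algebraMap T (S g) t ⊗ₜ[T] (1 : K) = (1 : S g) ⊗ₜ[T] algebraMap T K t
      rw [Algebra.algebraMap_eq_smul_one, Algebra.algebraMap_eq_smul_one, TensorProduct.smul_tmul]
    have hEb : ∀ b, (E g).e b ∈ Submodule.span (S g) (Set.range fun m => push ιS (a m)) := by
      intro b
      let y := (EW g).e b
      have hid : ∀ m, IsIdempotentElem ((EV g).e.repr y m) := fun m => by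
        have := (EV g).repr_idem ((EW g).gl b) m m
        rwa [if_pos rfl] at this
      choose t ht using fun m => mem_range_of_idempotent (S := S g) K (hid m)
      have : (E g).e b = ∑ m ∈ ((EV g).e.repr y).support, t m • push ιS (a m) := by
        apply hi₁ g
        rw [← hEW, map_sum]
        conv_lhs => rw [show (EW g).e b = y from rfl, ← (EV g).e.linearCombination_repr y,
          Finsupp.linearCombination_apply, Finsupp.sum]
        refine Finset.sum_congr rfl fun m _ => ?_
        rw [push_smul, hW, ha, ← hEV, ← ht m]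
        rfl
      rw [this]
      exact Submodule.sum_mem _ fun m _ => Submodule.smul_mem _ _ (Submodule.subset_span ⟨m, rfl⟩)
    let ψ : S g ⊗[T] (T ⊗[R] A) ≃ₗ[S g] S g ⊗[R] A :=
      TensorProduct.AlgebraTensorModule.cancelBaseChange R T (S g) (S g) A
    have hψ : ∀ z : T ⊗[R] A, ψ ((1 : S g) ⊗ₜ[T] z) = push ιS z := fun z => by
      induction z using TensorProduct.induction_on with
      | zero => simp
      | add p q hp hq => simp only [TensorProduct.tmul_add, map_add, hp, hq]
      | tmul p q => simp [ψ, push, ιS, Algebra.smul_def]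
    let P := Submodule.span T (Set.range a)
    let Φ : S g ⊗[R] A →ₗ[S g] S g ⊗[T] ((T ⊗[R] A) ⧸ P) := (P.mkQ.baseChange (S g)) ∘ₗ ψ.symm.toLinearMap
    have hzero : Φ = 0 := (E g).e.ext fun b => by
      rw [LinearMap.zero_apply]
      refine (Submodule.span_le.2 ?_ : Submodule.span (S g) (Set.range fun m => push ιS (a m)) ≤ LinearMap.ker Φ) (hEb b)
      rintro _ ⟨m, rfl⟩
      show P.mkQ.baseChange (S g) (ψ.symm (push ιS (a m))) = 0
      rw [← hψ, LinearEquiv.symm_apply_apply, LinearMap.baseChange_tmul, Submodule.mkQ_apply,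
        (Submodule.Quotient.mk_eq_zero P).2 (Submodule.subset_span ⟨m, rfl⟩), TensorProduct.tmul_zero]
    have := LinearMap.congr_fun hzero (push ιS x)
    simp only [Φ, LinearMap.comp_apply, LinearEquiv.coe_coe, ← hψ, LinearEquiv.symm_apply_apply,
      LinearMap.baseChange_tmul, LinearMap.zero_apply] at this
    exact this
  exact ⟨{ e := Module.Basis.mk hli hspan
           e_zero := by rw [Module.Basis.mk_apply]; exact hιK (by rw [ha, EK.e_zero, map_one])
           e_add := fun p q => by
             simp only [Module.Basis.mk_apply]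
             exact hιK (by rw [ha, EK.e_add, map_mul, ha, ha])
           gl := fun m => by rw [Module.Basis.mk_apply]; exact hagl m }⟩

set_option maxHeartbeats 4000000 in
/-- With trivial torsion over a finite level, the Galois action on the generic type is trivial. -/
theorem exists_split_of_level [Module.Flat R A] {T : Type u} [CommRing T] [Algebra R T] {K₀ : Type u} [Field K₀]
    [Algebra R K₀] {K : Type u} [Field K] [Algebra R K] [Algebra T K] [IsScalarTower R T K] [Algebra K₀ K]
    [IsScalarTower R K₀ K] (F : Type u) [Field F] [Algebra K F] [IsAlgClosure K F] [IsAlgClosed F] [Algebra R F]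
    [Algebra T F] [Algebra K₀ F] [IsScalarTower R K F] [IsScalarTower T K F] [IsScalarTower R T F]
    [IsScalarTower K₀ K F] [IsScalarTower R K₀ F] {k' : Type u} [Field k'] [Algebra K₀ k'] [Algebra R k']
    [IsScalarTower R K₀ k'] [Module.Finite K₀ k'] [Algebra.IsSeparable K₀ k'] {N : Type u} [AddCommGroup N]
    [Module.Finite ℤ N] (E₀ : Split R A N k') {e : ℕ} (he0 : 0 < e) (he : ∀ t : N, (∃ d : ℕ, 0 < d ∧ d • t = 0) → e • t = 0)
    {n : ℕ} (hn : n = 3 * e) (J : Ideal A) [J.IsHopfIdeal R] (hJ : J = SGA3b.torsionIdeal R A n) {N₁ : Type u}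
    [AddCommGroup N₁] (E₁ : Split R (A ⧸ J) N₁ T) : Nonempty (Split R A N K) := by
  classical
  let j : k' →ₐ[K₀] F := IsAlgClosed.lift
  let Ks := separableClosure K F
  have hjs : ∀ x, j x ∈ Ks := fun x => by
    rw [mem_separableClosure_iff]
    exact IsSeparable.tower_top K (IsSeparable.map j j.injective (Algebra.IsSeparable.isSeparable K₀ x))
  haveI : IsScalarTower R Ks F := IsScalarTower.of_algebraMap_eq fun r => by
    rw [IsScalarTower.algebraMap_apply R K F r, IsScalarTower.algebraMap_apply R K Ks r]; rfl
  let incl : Ks →ₐ[R] F := IsScalarTower.toAlgHom R Ks F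
  let js : k' →ₐ[R] Ks :=
    { toFun := fun x => ⟨j x, hjs x⟩
      map_one' := Subtype.ext (map_one j)
      map_mul' := fun p q => Subtype.ext (map_mul j p q)
      map_zero' := Subtype.ext (map_zero j)
      map_add' := fun p q => Subtype.ext (map_add j p q)
      commutes' := fun r => Subtype.ext ((j.restrictScalars R).commutes r) }
  obtain ⟨EF, hEF⟩ := exists_split_push E₀ (incl.comp js)
  -- level structure
  let ιKF : T →ₐ[R] F := IsScalarTower.toAlgHom R T F
  obtain ⟨EJ, hEJ⟩ := exists_split_push E₁ ιKF
  obtain ⟨EJ', hEJ'⟩ := exists_split_torsion EF n J hJ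
  have hlevel : ∀ (σ : F ≃ₐ[K] F) (m m' : N), push (σ.toAlgHom.restrictScalars R) (EF.e m) = EF.e m' →
      ∃ y, m' - m = (3 * e : ℤ) • y := by
    intro σ m m' hm
    let σR := σ.toAlgHom.restrictScalars R
    have hgl : IsGL R (A ⧸ J) F (quotExt F J (EF.e m)) := by rw [← hEJ']; exact EJ'.gl _
    obtain ⟨b, hb⟩ := EJ.exists_eq hgl
    have hfix : push σR (quotExt F J (EF.e m)) = quotExt F J (EF.e m) := by
      rw [hb, hEJ, push_idem]
      refine congrArg (fun f => push (A := A ⧸ J) f (E₁.e b)) (AlgHom.ext fun t => ?_)
      show σ (algebraMap T F t) = algebraMap T F t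
      rw [IsScalarTower.algebraMap_apply T K F, σ.commutes]
    have hcomm : push σR (quotExt F J (EF.e m)) = quotExt F J (push σR (EF.e m)) := by
      generalize EF.e m = z
      induction z using TensorProduct.induction_on with
      | zero => simp
      | add p q hp hq => simp only [map_add, hp, hq]
      | tmul p q => simp [push, quotExt]
    rw [hcomm, hm, ← hEJ', ← hEJ'] at hfix
    obtain ⟨y, hy⟩ := AddMonoidHom.mem_range.1 (QuotientAddGroup.eq_iff_sub_mem.1 (EJ'.e.injective hfix))
    refine ⟨y, ?_⟩
    rw [← hy, nsmulAddMonoidHom_apply, show (3 * e : ℤ) = ((n : ℕ) : ℤ) by simp [hn], natCast_zsmul]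
  -- the Galois action is trivial
  have hfixed : ∀ (σ : F ≃ₐ[K] F) m, push (σ.toAlgHom.restrictScalars R) (EF.e m) = EF.e m := by
    intro σ
    let σR := σ.toAlgHom.restrictScalars R
    choose g hg using fun m => EF.exists_eq ((EF.gl m).push σR)
    have hinj : Function.Injective EF.e := EF.e.injective
    let τ : N →+ N :=
      { toFun := g
        map_zero' := hinj (by rw [← hg, EF.e_zero, map_one])
        map_add' := fun p q => hinj (by rw [EF.e_add, ← hg, ← hg, ← hg, EF.e_add, map_mul]) }
    let σp : ℕ → (k' →ₐ[K₀] F) := fun i => (((σ ^ i : F ≃ₐ[K] F) : F →ₐ[K] F).restrictScalars K₀).comp j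
    obtain ⟨p, q, hpq, hne⟩ := Finite.exists_ne_map_eq_of_infinite σp
    wlog hlt : p < q generalizing p q
    · exact this q p (Ne.symm hpq) hne.symm (lt_of_le_of_ne (not_lt.1 hlt) (Ne.symm hpq))
    have hper : ∀ x : k', (σ ^ (q - p)) (j x) = j x := fun x => by
      have h1 : (σ ^ p) (j x) = (σ ^ q) (j x) := DFunLike.congr_fun hne x
      apply (σ ^ p).injective
      rw [h1, ← AlgEquiv.mul_apply, ← pow_add, Nat.add_sub_cancel' hlt.le]
    have hiter : ∀ (i : ℕ) m, EF.e (τ^[i] m) = push (((σ ^ i : F ≃ₐ[K] F) : F →ₐ[K] F).restrictScalars R) (EF.e m) := by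
      intro i
      induction i with
      | zero =>
        intro m
        rw [Function.iterate_zero, id_eq]
        generalize EF.e m = z
        induction z using TensorProduct.induction_on with
        | zero => simp
        | add p q hp hq => rw [map_add, ← hp, ← hq]
        | tmul p q => rfl
      | succ i ih =>
        intro m
        rw [Function.iterate_succ_apply', show EF.e (τ (τ^[i] m)) = push σR (EF.e (τ^[i] m)) from (hg _).symm, ih,
          push_idem]
        refine congrArg (fun f => push (A := A) f (EF.e m)) (AlgHom.ext fun x => ?_)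
        rw [pow_succ']
        rfl
    have hτ : ∀ m, τ^[q - p] m = m := fun m => hinj (by
      rw [hiter, hEF, push_idem]
      exact congrArg (fun f => push (A := A) f (E₀.e m)) (AlgHom.ext fun x => hper x))
    intro m
    have := eq_self_of_congr he0 he (Nat.sub_pos_of_lt hlt) τ hτ (fun m => hlevel σ m (g m) (hg m)) m
    rw [hg]
    exact congrArg EF.e this
  -- descend to the fraction field
  let β := Module.Free.chooseBasis K (K ⊗[R] A)
  obtain ⟨βs, hβs⟩ := exists_basis_push β (IsScalarTower.toAlgHom R K Ks)
  obtain ⟨βF, hβF⟩ := exists_basis_push β (IsScalarTower.toAlgHom R K F)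
  have hdesc : ∀ m, ∃ w : K ⊗[R] A, push (IsScalarTower.toAlgHom R K F) w = EF.e m := by
    intro m
    have hcoef : ∀ i, βF.repr (EF.e m) i ∈ Set.range (algebraMap K F) := fun i => by
      refine mem_range_of_fixed ?_ fun σ => ?_
      · have hb : ∀ i, βF i = push incl (βs i) := fun i => by
          rw [hβs, push_idem, hβF]
          exact congrArg (fun f => push (A := A) f (β i)) (AlgHom.ext fun x => rfl)
        rw [hEF, ← push_idem, repr_of_push βs βF incl hb]
        exact (βs.repr (push js (E₀.e m)) i).2
      · have hb : ∀ i, βF i = push (σ.toAlgHom.restrictScalars R) (βF i) := fun i => by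
          rw [hβF, push_idem]
          exact congrArg (fun f => push (A := A) f (β i)) (AlgHom.ext fun x => (σ.commutes x).symm)
        have := repr_of_push βF βF (σ.toAlgHom.restrictScalars R) hb (EF.e m) i
        rw [hfixed] at this
        exact this.symm
    choose c hc using hcoef
    refine ⟨∑ i ∈ (βF.repr (EF.e m)).support, c i • β i, ?_⟩
    conv_rhs => rw [← βF.linearCombination_repr (EF.e m), Finsupp.linearCombination_apply, Finsupp.sum]
    rw [map_sum]
    refine Finset.sum_congr rfl fun i _ => ?_
    rw [push_smul, ← hβF, ← hc i]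
    rfl
  choose w hw using hdesc
  let ιF := IsScalarTower.toAlgHom R K F
  have hιF : Function.Injective (push (A := A) ιF) :=
    Module.Flat.rTensor_preserves_injective_linearMap (M := A) ιF.toLinearMap (algebraMap K F).injective
  have hwgl : ∀ m, IsGL R A K (w m) := fun m =>
    IsGL.of_push ιF (algebraMap K F).injective (by rw [hw]; exact EF.gl m)
  refine (?_ : Nonempty (Split R A N K))
  let ι : K ⊗[R] A →ₗ[K] F ⊗[R] A := TensorProduct.AlgebraTensorModule.map (Algebra.linearMap K F) LinearMap.id
  have hι : ∀ z, ι z = push ιF z := fun z => by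
    induction z using TensorProduct.induction_on with
    | zero => simp
    | add p q hp hq => simp only [map_add, hp, hq]
    | tmul p q => simp [ι, push, ιF]
  have hli : LinearIndependent K w := by
    refine LinearIndependent.of_comp ι ?_
    rw [show (ι ∘ w) = fun m => EF.e m from funext fun m => by rw [Function.comp_apply, hι, hw]]
    exact EF.e.linearIndependent.restrict_scalars (by
      intro p q hpq
      exact (algebraMap K F).injective (by simpa [Algebra.smul_def] using hpq))
  have hspan : ⊤ ≤ Submodule.span K (Set.range w) := fun x _ => by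
    let P := Submodule.span K (Set.range w)
    rw [← Submodule.Quotient.mk_eq_zero]
    refine Module.FaithfullyFlat.tensorProduct_mk_injective (A := K) (B := F) _ ?_
    let ψ : F ⊗[K] (K ⊗[R] A) ≃ₗ[F] F ⊗[R] A := TensorProduct.AlgebraTensorModule.cancelBaseChange R K F F A
    have hψ : ∀ z : K ⊗[R] A, ψ ((1 : F) ⊗ₜ[K] z) = push ιF z := fun z => by
      induction z using TensorProduct.induction_on with
      | zero => simp
      | add p q hp hq => simp only [TensorProduct.tmul_add, map_add, hp, hq]
      | tmul p q => simp [ψ, push, ιF, Algebra.smul_def]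
    let Φ : F ⊗[R] A →ₗ[F] F ⊗[K] ((K ⊗[R] A) ⧸ P) := (P.mkQ.baseChange F) ∘ₗ ψ.symm.toLinearMap
    have hzero : Φ = 0 := EF.e.ext fun m => by
      rw [LinearMap.zero_apply, ← hw]
      show P.mkQ.baseChange F (ψ.symm (push ιF (w m))) = 0
      rw [← hψ, LinearEquiv.symm_apply_apply, LinearMap.baseChange_tmul, Submodule.mkQ_apply,
        (Submodule.Quotient.mk_eq_zero P).2 (Submodule.subset_span ⟨m, rfl⟩), TensorProduct.tmul_zero]
    have := LinearMap.congr_fun hzero (push ιF x)
    simp only [Φ, LinearMap.comp_apply, LinearEquiv.coe_coe, ← hψ, LinearEquiv.symm_apply_apply,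
      LinearMap.baseChange_tmul, LinearMap.zero_apply] at this
    simpa using this
  exact ⟨{ e := Module.Basis.mk hli hspan
           e_zero := by rw [Module.Basis.mk_apply]; exact hιF (by rw [hw, EF.e_zero, map_one])
           e_add := fun p q => by
             simp only [Module.Basis.mk_apply]
             exact hιF (by rw [hw, EF.e_add, map_mul, hw, hw])
           gl := fun m => by rw [Module.Basis.mk_apply]; exact hwgl m }⟩

theorem isIsotrivial_of_isIntegrallyClosed [IsDomain R] [IsIntegrallyClosed R] (hft : Algebra.FiniteType R A)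
    (h : SGA3b.IsMultType R A) : SGA3b.IsIsotrivial R A := by
  classical
  haveI := hft
  haveI : ConnectedSpace (PrimeSpectrum R) := inferInstance
  haveI := isCocomm_of_isMultType h
  haveI : Module.Flat R A := flat_of_isMultType h
  -- the generic type
  let K₀ := FractionRing R
  haveI : Algebra.FiniteType K₀ (K₀ ⊗[R] A) := inferInstance
  obtain ⟨k', _, _, hk'fin, hk'sep, N, _, hN, ⟨e₀⟩⟩ := isotrivial_of_field (K := K₀) (A := K₀ ⊗[R] A) inferInstance
    (QIso.isMultType_baseChange h K₀)
  haveI := hk'fin; haveI := hk'sep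
  letI : Algebra R k' := ((algebraMap K₀ k').comp (algebraMap R K₀)).toAlgebra
  haveI : IsScalarTower R K₀ k' := IsScalarTower.of_algebraMap_eq fun _ => rfl
  obtain ⟨E₀'⟩ := exists_split_of_bialgEquiv e₀
  obtain ⟨E₀⟩ := exists_split_transfer (R := R) (R' := K₀) E₀'
  haveI : Module.Finite ℤ (Additive N) := Module.Finite.iff_addGroup_fg.2
    (AddGroup.fg_iff_addMonoid_fg.2 (fg_of_split' E₀))
  obtain ⟨e, he0, he⟩ := exists_torsion_exponent (M := Additive N)
  let n := 3 * e
  -- trivialise the torsion
  haveI hJ : (SGA3b.torsionIdeal R A n).IsHopfIdeal R := isHopfIdeal_torsionIdeal n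
  let J := SGA3b.torsionIdeal R A n
  obtain ⟨hJm, hJf⟩ := isMultType_torsion h (by omega : 0 < n) J rfl
  haveI := hJf
  obtain ⟨T₁, _, _, hT₁et, hT₁fin, hT₁ff, N₁, _, ⟨e₁⟩⟩ := isIsotrivial_of_isMultType hJm
  haveI := hT₁et; haveI := hT₁fin; haveI := hT₁ff
  haveI : Nontrivial T₁ := (FaithfulSMul.algebraMap_injective R T₁).nontrivial
  obtain ⟨E₁'⟩ := exists_split_of_bialgEquiv e₁
  obtain ⟨T, _, _, π, hTfin, hTet, hTff, hTnt, hTconn⟩ := exists_connected_part (R := R) T₁
  haveI := hTfin; haveI := hTet; haveI := hTff; haveI := hTnt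
  obtain ⟨E₁, -⟩ := exists_split_push E₁' π
  obtain ⟨hTd, hTn⟩ := isDomain_and_isIntegrallyClosed (R := R) T hTconn
  haveI := hTd; haveI := hTn
  -- the generic point of the covering
  let K := FractionRing T
  haveI : IsScalarTower R T K := inferInstance
  have hRK : Function.Injective (algebraMap R K) :=
    (IsScalarTower.algebraMap_eq R T K) ▸ (IsFractionRing.injective T K).comp (FaithfulSMul.algebraMap_injective R T)
  let fK : K₀ →+* K := IsFractionRing.lift hRK
  letI : Algebra K₀ K := fK.toAlgebra
  haveI : IsScalarTower R K₀ K := IsScalarTower.of_algebraMap_eq fun r => (IsFractionRing.lift_algebraMap hRK r).symm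
  let F := AlgebraicClosure K
  haveI : IsScalarTower R K₀ F := IsScalarTower.of_algebraMap_eq fun r => by
    rw [IsScalarTower.algebraMap_apply R K F, IsScalarTower.algebraMap_apply R K₀ K, ← IsScalarTower.algebraMap_apply K₀ K F]
  obtain ⟨EK⟩ := exists_split_of_level (T := T) (K₀ := K₀) (K := K) F E₀ he0 he (rfl : n = 3 * e) J rfl E₁
  -- extend over the covering
  obtain ⟨s, hs, H⟩ := QIso.isQuasiIsotrivial_of_finiteType (R := T) (A := T ⊗[R] A)
    (Algebra.FiniteType.baseChange (A := A) T) (QIso.isMultType_baseChange h T)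
  obtain ⟨ET⟩ := exists_split_of_generic (T := T) K EK s hs fun g hg => by
    obtain ⟨S, _, _, hSet, hSff, N', _, ⟨e'⟩⟩ := H g hg
    letI : Algebra T S := ((algebraMap (Localization.Away g) S).comp (algebraMap T (Localization.Away g))).toAlgebra
    haveI : IsScalarTower T (Localization.Away g) S := IsScalarTower.of_algebraMap_eq fun _ => rfl
    letI : Algebra R S := ((algebraMap T S).comp (algebraMap R T)).toAlgebra
    haveI : IsScalarTower R T S := IsScalarTower.of_algebraMap_eq fun _ => rfl
    obtain ⟨ES⟩ := exists_split_of_bialgEquiv e'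
    obtain ⟨ES'⟩ := exists_split_transfer ES
    obtain ⟨ES''⟩ := exists_split_transfer ES'
    haveI := hSet
    haveI : Algebra.Etale T (Localization.Away g) := Algebra.Etale.of_isLocalizationAway g
    exact ⟨S, inferInstance, inferInstance, inferInstance, inferInstance, inferInstance, inferInstance, Additive N',
      inferInstance, Algebra.Etale.comp T (Localization.Away g) S, hSff, ⟨ES''⟩⟩
  obtain ⟨eT⟩ := exists_bialgEquiv ET
  exact ⟨T, inferInstance, inferInstance, hTet, hTfin, hTff, N, inferInstance, ⟨eT⟩⟩

end Groth.Agent.FinMult
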