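import Groth.Agent.FinMultLib.Dual
import Groth.Agent.QIsoLib.Level
import Groth.Agent.QIsoLib.Lift
import Mathlib.RingTheory.Spectrum.Prime.Chevalley
import Mathlib.RingTheory.Spectrum.Prime.FreeLocus
import Mathlib.RingTheory.Spectrum.Prime.ConstructibleSet
import Mathlib.RingTheory.QuasiFinite.Basic
import Mathlib.RingTheory.Smooth.Flat
import Mathlib.RingTheory.Smooth.Fiber
import Mathlib.RingTheory.Finiteness.ModuleFinitePresentation
import Mathlib.RingTheory.LocalProperties.FinitePresentation
import Mathlib.LinearAlgebra.TensorProduct.Pi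

set_option autoImplicit false

/-!
Finite groups of multiplicative type over a connected base are isotrivial.
-/

noncomputable section

universe u

open scoped TensorProduct
open Groth.Agent.TorusField Groth.Agent.DiagHopf

namespace Groth.Agent.FinMult

theorem comap_surjective_of_finite_etale {R : Type u} [CommRing R] [ConnectedSpace (PrimeSpectrum R)]
    (T : Type u) [CommRing T] [Algebra R T] [Module.Finite R T] [Algebra.Etale R T] [Nontrivial T] :
    Function.Surjective (PrimeSpectrum.comap (algebraMap R T)) := by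
  have ho : IsOpen (Set.range (PrimeSpectrum.comap (algebraMap R T))) :=
    PrimeSpectrum.isOpenMap_comap_of_hasGoingDown_of_finitePresentation.isOpen_range
  have hc : IsClosed (Set.range (PrimeSpectrum.comap (algebraMap R T))) :=
    (PrimeSpectrum.isClosedMap_comap_of_isIntegral _ (Algebra.IsIntegral.of_finite R T).isIntegral).isClosed_range
  exact Set.range_eq_univ.1 ((IsClopen.eq_univ ⟨hc, ho⟩ (Set.range_nonempty _)))

theorem etale_quotient {R : Type u} [CommRing R] (T : Type u) [CommRing T] [Algebra R T] [Algebra.Etale R T] {f : T}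
    (hf : IsIdempotentElem f) : Algebra.Etale R (T ⧸ Ideal.span {1 - f}) := by
  haveI : IsLocalization.Away f (T ⧸ Ideal.span {1 - f}) :=
    IsLocalization.away_of_isIdempotentElem hf (by rw [Ideal.Quotient.algebraMap_eq, Ideal.mk_ker]) Ideal.Quotient.mk_surjective
  haveI : Algebra.Etale T (T ⧸ Ideal.span {1 - f}) := Algebra.Etale.of_isLocalizationAway f
  exact Algebra.Etale.comp R T _

/-- A finite étale algebra has a connected part, surjective over a connected base. -/
theorem exists_connected_part {R : Type u} [CommRing R] [ConnectedSpace (PrimeSpectrum R)]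
    (T : Type u) [CommRing T] [Algebra R T] [Module.Finite R T] [Algebra.Etale R T] [Nontrivial T] :
    ∃ (T' : Type u) (_ : CommRing T') (_ : Algebra R T') (_ : T →ₐ[R] T'), Module.Finite R T' ∧ Algebra.Etale R T' ∧
      Module.FaithfullyFlat R T' ∧ Nontrivial T' ∧ ∀ e : T', IsIdempotentElem e → e = 0 ∨ e = 1 := by
  classical
  obtain ⟨p⟩ : Nonempty (PrimeSpectrum R) := inferInstance
  let F : Set (PrimeSpectrum T) := PrimeSpectrum.comap (algebraMap R T) ⁻¹' {p}
  have hF : F.Finite := Algebra.QuasiFinite.finite_comap_preimage_singleton p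
  let supp : T → Set (PrimeSpectrum T) := fun f => {P ∈ F | f ∉ P.asIdeal}
  have hsupp : ∀ f : T, IsIdempotentElem f → f ≠ 0 → (supp f).Nonempty := by
    intro f hf hf0
    haveI := etale_quotient (R := R) T hf
    haveI : Nontrivial (T ⧸ Ideal.span {1 - f}) := Ideal.Quotient.nontrivial_iff.2 fun h => by
      obtain ⟨c, hc⟩ := Ideal.mem_span_singleton'.1 ((Ideal.eq_top_iff_one _).1 h)
      exact hf0 (by linear_combination (-f) * hc + (-c) * hf.eq)
    obtain ⟨Q, hQ⟩ := comap_surjective_of_finite_etale (T ⧸ Ideal.span {1 - f}) p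
    refine ⟨PrimeSpectrum.comap (Ideal.Quotient.mk _) Q, ?_, fun hmem => ?_⟩
    · show PrimeSpectrum.comap (algebraMap R T) (PrimeSpectrum.comap (Ideal.Quotient.mk _) Q) = p
      rw [← hQ, ← PrimeSpectrum.comap_comp_apply]
      rfl
    · have h1 : Ideal.Quotient.mk (Ideal.span {1 - f}) f = 1 := by
        rw [← map_one (Ideal.Quotient.mk (Ideal.span {1 - f})), Ideal.Quotient.eq, Ideal.mem_span_singleton']
        exact ⟨-1, by ring⟩
      exact Q.isPrime.ne_top ((Ideal.eq_top_iff_one _).2 (h1 ▸ hmem))
  have hex : ∃ k, ∃ f : T, IsIdempotentElem f ∧ f ≠ 0 ∧ (supp f).ncard = k := ⟨_, 1, IsIdempotentElem.one, one_ne_zero, rfl⟩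
  obtain ⟨f, hf, hf0, hfk⟩ := Nat.find_spec hex
  haveI := etale_quotient (R := R) T hf
  haveI : Nontrivial (T ⧸ Ideal.span {1 - f}) := Ideal.Quotient.nontrivial_iff.2 fun h => by
    obtain ⟨c, hc⟩ := Ideal.mem_span_singleton'.1 ((Ideal.eq_top_iff_one _).1 h)
    exact hf0 (by linear_combination (-f) * hc + (-c) * hf.eq)
  refine ⟨T ⧸ Ideal.span {1 - f}, inferInstance, inferInstance, Ideal.Quotient.mkₐ R _, inferInstance, inferInstance,
    Module.FaithfullyFlat.of_comap_surjective (comap_surjective_of_finite_etale _), inferInstance, fun e he => ?_⟩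
  obtain ⟨g₀, rfl⟩ := Ideal.Quotient.mk_surjective e
  have hg₀ : g₀ * g₀ - g₀ ∈ Ideal.span {1 - f} := by
    rw [← Ideal.Quotient.eq_zero_iff_mem, map_sub, map_mul, he.eq, sub_self]
  obtain ⟨c, hc⟩ := Ideal.mem_span_singleton'.1 hg₀
  let g := f * g₀
  have hg : IsIdempotentElem g := by
    show f * g₀ * (f * g₀) = f * g₀
    linear_combination g₀ * g₀ * hf.eq + (-f) * hc + (-c) * hf.eq
  have hmkf : Ideal.Quotient.mk (Ideal.span {1 - f}) f = 1 := by
    rw [← map_one (Ideal.Quotient.mk (Ideal.span {1 - f})), Ideal.Quotient.eq, Ideal.mem_span_singleton']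
    exact ⟨-1, by ring⟩
  have hmk : Ideal.Quotient.mk (Ideal.span {1 - f}) g = Ideal.Quotient.mk _ g₀ := by
    rw [map_mul, hmkf, one_mul]
  rcases eq_or_ne g 0 with hz | hz
  · left; rw [← hmk, hz, map_zero]
  rcases eq_or_ne g f with hgf | hgf
  · right; rw [← hmk, hgf, hmkf]
  exfalso
  have hh : IsIdempotentElem (f - g) := by
    show (f - g) * (f - g) = f - g
    have hg' : g * g = g := hg
    have hfg : f * g = g := by show f * (f * g₀) = f * g₀; linear_combination g₀ * hf.eq
    linear_combination hf.eq + hg' - 2 * hfg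
  have hfg : f * g = g := by show f * (f * g₀) = f * g₀; linear_combination g₀ * hf.eq
  obtain ⟨P, hPF, hP⟩ := hsupp (f - g) hh (sub_ne_zero.2 (Ne.symm hgf))
  have hlt : supp g ⊂ supp f := by
    refine ⟨fun Q hQ => ⟨hQ.1, fun hm => hQ.2 (by rw [← hfg]; exact Ideal.mul_mem_right _ _ hm)⟩, fun hsub => ?_⟩
    have hPf : f ∉ P.asIdeal := fun hm => by
      refine hP ?_
      rw [show f - g = f * (1 - g₀) by simp only [g]; ring]
      exact Ideal.mul_mem_right _ _ hm
    have h2 : (f - g) * g = 0 := by linear_combination hfg - hg.eq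
    exact (hsub ⟨hPF, hPf⟩).2 ((P.isPrime.mem_or_mem (h2 ▸ P.asIdeal.zero_mem)).resolve_left hP)
  exact Nat.find_min hex (hfk ▸ Set.ncard_lt_ncard hlt (hF.subset fun Q hQ => hQ.1)) ⟨g, hg, hz, rfl⟩

variable {R : Type u} [CommRing R] {A : Type u} [CommRing A] [HopfAlgebra R A]

theorem isDualAlg_toDual [Coalgebra.IsCocomm R A] [Module.Finite R A] [Module.Projective R A] :
    IsDualAlg (A := A) (D₀ := CartDual.D R A) (CartDual.toDual R A) :=
  ⟨fun a => by simp [CartDual.toDual, LinearMap.convOne_def], fun x y a => LinearMap.convMul_apply x y a⟩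

theorem isIsotrivial_of_etale_dual [ConnectedSpace (PrimeSpectrum R)] [Coalgebra.IsCocomm R A] [Module.Finite R A]
    [Module.Projective R A] (h : Algebra.Etale R (CartDual.D R A)) : SGA3b.IsIsotrivial R A := by
  haveI := h
  haveI : Module.Finite R (CartDual.D R A) := inferInstance
  haveI : Module.FinitePresentation R (CartDual.D R A) := Module.finitePresentation_of_projective R _
  have hconst := (Module.isLocallyConstant_rankAtStalk (R := R) (M := CartDual.D R A)).eq_const
    (Classical.arbitrary (PrimeSpectrum R))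
  obtain ⟨T, _, _, hff, hfin, het, hsplit⟩ := Algebra.IsFiniteSplit.exists_tensorProduct_of_etale (R := R)
    (S := CartDual.D R A) (n := Module.rankAtStalk (R := R) (CartDual.D R A) (Classical.arbitrary _)) (by
      rw [hconst]; rfl)
  haveI := hff; haveI := hfin; haveI := het; haveI := hsplit
  haveI : Nontrivial R := PrimeSpectrum.nonempty_iff_nontrivial.1 inferInstance
  haveI : Nontrivial T := (FaithfulSMul.algebraMap_injective R T).nontrivial
  obtain ⟨T', _, _, π, hfin', het', hff', hnt', hconn⟩ := exists_connected_part (R := R) T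
  haveI := hfin'; haveI := het'; haveI := hff'; haveI := hnt'
  haveI : Algebra.IsFiniteSplit T' (T' ⊗[R] CartDual.D R A) := by
    letI : Algebra T T' := π.toRingHom.toAlgebra
    haveI : IsScalarTower R T T' := IsScalarTower.of_algebraMap_eq fun r => (π.commutes r).symm
    exact Algebra.IsFiniteSplit.of_algEquiv (Algebra.TensorProduct.cancelBaseChange R T T' T' (CartDual.D R A))
  obtain ⟨M, _, ⟨E⟩⟩ := exists_split_of_isFiniteSplit (CartDual.toDual R A) T' isDualAlg_toDual hconn
  obtain ⟨e⟩ := exists_bialgEquiv (N := Multiplicative M) (E : Split R A (Additive (Multiplicative M)) T')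
  exact ⟨T', inferInstance, inferInstance, het', hfin', hff', Multiplicative M, inferInstance, ⟨e⟩⟩

theorem etale_dual_of_isIsotrivial [Coalgebra.IsCocomm R A] [Module.Finite R A] [Module.Projective R A]
    (h : SGA3b.IsIsotrivial R A) : Algebra.Etale R (CartDual.D R A) := by
  obtain ⟨S, _, _, -, -, hff, N, _, ⟨e⟩⟩ := h
  haveI := hff
  obtain ⟨E⟩ := exists_split_of_bialgEquiv e
  exact etale_dual_of_split (CartDual.toDual R A) S isDualAlg_toDual E

theorem projective_of_isMultType [Module.Finite R A] (hA : SGA3b.IsMultType R A) : Module.Projective R A := by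
  classical
  obtain ⟨s, hs, H⟩ := exists_cover_split hA
  have key : ∀ g : s, Module.Projective (Localization.Away g.1) (Localization.Away g.1 ⊗[R] A) := fun g => by
    obtain ⟨S, _, _, _, _, N, _, hff, ⟨E⟩⟩ := H g.1 g.2
    haveI := hff
    obtain ⟨E'⟩ := exists_split_transfer' (R' := Localization.Away g.1) E
    exact Groth.Agent.QIso.flat_of_split E'
  haveI : ∀ g : s, IsLocalizedModule (Submonoid.powers g.1) (TensorProduct.mk R (Localization.Away g.1) A 1) := fun g =>
    (isLocalizedModule_iff_isBaseChange (Submonoid.powers g.1) (Localization.Away g.1) _).2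
      (TensorProduct.isBaseChange R A (Localization.Away g.1))
  haveI : Module.FinitePresentation R A :=
    Module.FinitePresentation.of_localizationSpan' (Rₚ := fun g : s => Localization.Away g.1)
      (Mₚ := fun g : s => Localization.Away g.1 ⊗[R] A) s hs
      (fun g => TensorProduct.mk R (Localization.Away g.1) A 1) fun g => by
        haveI := key g
        exact Module.finitePresentation_of_projective _ _
  haveI : Module.Flat R A := by
    refine Module.flat_of_isLocalized_span R A s hs (fun g : s => Localization.Away g.1 ⊗[R] A)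
      (fun g => TensorProduct.mk R (Localization.Away g.1) A 1) fun g => ?_
    haveI := key g
    haveI : Module.Flat R (Localization.Away g.1) := IsLocalization.flat _ (Submonoid.powers g.1)
    exact Module.Flat.trans R (Localization.Away g.1) _
  exact Module.Flat.projective_of_finitePresentation

theorem isCocomm_of_isMultType (hA : SGA3b.IsMultType R A) : Coalgebra.IsCocomm R A := by
  classical
  obtain ⟨ι, _, S, _, _, N, _, hff, hE⟩ := exists_family_split hA
  haveI := hff
  let c : A ⊗[R] A →ₐ[R] A ⊗[R] A := (Algebra.TensorProduct.comm R A A).toAlgHom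
  refine ⟨LinearMap.ext fun x => ?_⟩
  apply Module.FaithfullyFlat.tensorProduct_mk_injective (A := R) (B := Π i, S i) (A ⊗[R] A)
  apply (TensorProduct.piLeft (R := R) (M := S) (N := A ⊗[R] A)).injective
  funext i
  obtain ⟨E⟩ := hE i
  simp only [TensorProduct.piLeft, TensorProduct.mk_apply, LinearEquiv.trans_apply, TensorProduct.comm_tmul, TensorProduct.piRight_apply, TensorProduct.piRightHom_tmul, LinearEquiv.piCongrRight_apply, Pi.one_apply]
  show (1 : S i) ⊗ₜ[R] c (Bialgebra.comulAlgHom R A x) = (1 : S i) ⊗ₜ[R] Bialgebra.comulAlgHom R A x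
  have e : (Algebra.TensorProduct.map (AlgHom.id (S i) (S i)) c).comp (D R A (S i)) = D R A (S i) :=
    AlgHom.toLinearMap_injective (E.e.ext fun m => by
      show Algebra.TensorProduct.map (AlgHom.id (S i) (S i)) c (D R A (S i) (E.e m)) = D R A (S i) (E.e m)
      rw [(E.gl m).1, map_mul]
      rw [← AlgHom.comp_apply, show (Algebra.TensorProduct.map (AlgHom.id (S i) (S i)) c).comp (J₁ R A (S i)) =
          J₂ R A (S i) from
        Algebra.TensorProduct.ext (Subsingleton.elim _ _) (AlgHom.ext fun a => by simp [J₁, J₂, c]),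
        ← AlgHom.comp_apply, show (Algebra.TensorProduct.map (AlgHom.id (S i) (S i)) c).comp (J₂ R A (S i)) =
          J₁ R A (S i) from
        Algebra.TensorProduct.ext (Subsingleton.elim _ _) (AlgHom.ext fun a => by simp [J₁, J₂, c]), mul_comm])
  simpa [D] using DFunLike.congr_fun e ((1 : S i) ⊗ₜ[R] x)

theorem etale_dual_of_isMultType {D₀ : Type u} [CommRing D₀] [Algebra R D₀] [Module.Finite R D₀] [Module.Projective R D₀]
    (ι : D₀ ≃ₗ[R] (A →ₗ[R] R)) (hι : IsDualAlg ι) [Module.Finite R A] [Module.Projective R A]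
    (hA : SGA3b.IsMultType R A) : Algebra.Etale R (D₀) := by
  obtain ⟨s, hs, H⟩ := exists_cover_split hA
  have key : ∀ g : s, Algebra.Etale (Localization.Away g.1) (Localization.Away g.1 ⊗[R] D₀) := fun g => by
    obtain ⟨S, _, _, _, _, N, _, hff, ⟨E⟩⟩ := H g.1 g.2
    haveI := hff
    haveI := etale_baseChange_of_split ι S hι E
    haveI : Algebra.Etale S (S ⊗[Localization.Away g.1] (Localization.Away g.1 ⊗[R] D₀)) :=
      .of_equiv (Algebra.TensorProduct.cancelBaseChange R (Localization.Away g.1) S S (D₀)).symm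
    exact Algebra.Etale.of_etale_tensorProduct_of_faithfullyFlat S
  haveI : Algebra.FinitePresentation R (D₀) := by
    haveI := Module.finitePresentation_of_projective R (D₀)
    infer_instance
  haveI : Algebra.FormallyUnramified R (D₀) := by
    constructor
    let W := Ω[D₀⁄R]
    haveI : ∀ g : s, IsLocalizedModule (Submonoid.powers g.1) (TensorProduct.mk R (Localization.Away g.1) W 1) := fun g =>
      (isLocalizedModule_iff_isBaseChange (Submonoid.powers g.1) (Localization.Away g.1) _).2
        (TensorProduct.isBaseChange R W (Localization.Away g.1))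
    refine ⟨fun x y => Module.eq_of_isLocalized_span s hs (fun g : s => Localization.Away g.1 ⊗[R] W)
      (fun g => TensorProduct.mk R (Localization.Away g.1) W 1) x y fun g => ?_⟩
    haveI := key g
    letI : Algebra (D₀) (Localization.Away g.1 ⊗[R] D₀) := Algebra.TensorProduct.rightAlgebra
    haveI : Subsingleton (Localization.Away g.1 ⊗[R] W) :=
      (KaehlerDifferential.tensorKaehlerEquivBase R (Localization.Away g.1) (D₀)
        (Localization.Away g.1 ⊗[R] D₀)).subsingleton
    exact Subsingleton.elim _ _
  exact Algebra.Etale.of_formallyUnramified_of_flat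

theorem isIsotrivial_of_isMultType [ConnectedSpace (PrimeSpectrum R)] [Module.Finite R A]
    (hA : SGA3b.IsMultType R A) : SGA3b.IsIsotrivial R A := by
  haveI := projective_of_isMultType hA
  haveI := isCocomm_of_isMultType hA
  exact isIsotrivial_of_etale_dual (etale_dual_of_isMultType (CartDual.toDual R A) isDualAlg_toDual hA)

end Groth.Agent.FinMult
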