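import Groth.Prelude.Def_CartDual
import Groth.Agent.DiagHopfLib.Groups
import Mathlib.RingTheory.Etale.Pi
import Mathlib.RingTheory.Etale.Descent
import Mathlib.RingTheory.TotallySplit

set_option autoImplicit false

/-!
Finite groups of multiplicative type and étale Cartier duals.
-/

noncomputable section

universe u

open scoped TensorProduct
open Groth.Agent.TorusField Groth.Agent.DiagHopf

namespace Groth.Agent.FinMult

variable {R : Type u} [CommRing R] {A : Type u} [CommRing A] [HopfAlgebra R A]
  {D₀ : Type u} [CommRing D₀] [Algebra R D₀] (ι : D₀ ≃ₗ[R] (A →ₗ[R] R))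

/-- `ι` identifies an algebra with the convolution algebra of linear forms. -/
structure IsDualAlg : Prop where
  one : ∀ a, ι 1 a = Coalgebra.counit a
  mul : ∀ x y a, ι (x * y) a = (LinearMap.mul' R R ∘ₗ TensorProduct.map (ι x) (ι y)) (Coalgebra.comul a)

/-- Extension of a linear form. -/
def ev (S : Type u) [CommRing S] [Algebra R S] (x : A →ₗ[R] R) : S ⊗[R] A →ₗ[S] S :=
  (TensorProduct.AlgebraTensorModule.rid R S S).toLinearMap ∘ₗ x.baseChange S

theorem ev_tmul (S : Type u) [CommRing S] [Algebra R S] (x : A →ₗ[R] R) (s : S) (a : A) :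
    ev S x (s ⊗ₜ a) = x a • s := by
  simp [ev]

theorem exists_dualFrame (R : Type u) [CommRing R] (A : Type u) [AddCommGroup A] [Module R A] [Module.Finite R A]
    [Module.Projective R A] : ∃ (n : ℕ) (b : Fin n → A) (φ : Fin n → (A →ₗ[R] R)), ∀ a, ∑ i, φ i a • b i = a := by
  obtain ⟨n, f, g, -, -, h⟩ := Module.Finite.exists_comp_eq_id_of_projective R A
  refine ⟨n, fun i => f (Pi.single i 1), fun i => (LinearMap.proj i) ∘ₗ g, fun a => ?_⟩
  conv_rhs => rw [show a = f (g a) from (LinearMap.congr_fun h a).symm, pi_eq_sum_univ' (g a)]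
  simp [map_sum]

variable (S : Type u) [CommRing S] [Algebra R S]

/-- The pairing of `S ⊗ D` and `S ⊗ A`. -/
def pair : S ⊗[R] D₀ →ₗ[S] (S ⊗[R] A →ₗ[S] S) :=
  LinearMap.liftBaseChange S
    ({ toFun := fun x => ev S (ι x)
       map_add' := fun x y => by ext; simp [ev_tmul, add_smul]
       map_smul' := fun (c : R) x => by ext; simp [ev_tmul, smul_smul] } :
      D₀ →ₗ[R] (S ⊗[R] A →ₗ[S] S))

theorem pair_tmul (s : S) (x : D₀) (z : S ⊗[R] A) : pair ι S (s ⊗ₜ x) z = s * ev S (ι x) z := by
  simp [pair]

section Frame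

variable {S} {n : ℕ} {b : Fin n → A} {φ : Fin n → (A →ₗ[R] R)} (hb : ∀ a, ∑ i, φ i a • b i = a)
include hb

theorem sum_ev (z : S ⊗[R] A) : ∑ i, ev S (φ i) z • ((1 : S) ⊗ₜ[R] b i) = z := by
  induction z using TensorProduct.induction_on with
  | zero => simp
  | add p q hp hq => simp only [map_add, add_smul, Finset.sum_add_distrib, hp, hq]
  | tmul s a =>
    conv_rhs => rw [← hb a, TensorProduct.tmul_sum]
    refine Finset.sum_congr rfl fun i _ => ?_
    rw [ev_tmul, TensorProduct.smul_tmul', smul_eq_mul, mul_one, TensorProduct.smul_tmul]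

theorem sum_pair (w : S ⊗[R] D₀) :
    ∑ i, pair ι S w ((1 : S) ⊗ₜ[R] b i) • ((1 : S) ⊗ₜ[R] ι.symm (φ i)) = w := by
  induction w using TensorProduct.induction_on with
  | zero => simp
  | add p q hp hq => simp only [map_add, LinearMap.add_apply, add_smul, Finset.sum_add_distrib, hp, hq]
  | tmul s x =>
    have hx : ∑ i, (ι x) (b i) • ι.symm (φ i) = x := by
      apply ι.injective
      ext a
      conv_rhs => rw [← hb a, map_sum]
      simp [mul_comm]
    conv_rhs => rw [← hx, TensorProduct.tmul_sum]
    refine Finset.sum_congr rfl fun i _ => ?_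
    rw [pair_tmul ι S, ev_tmul, TensorProduct.smul_tmul', smul_eq_mul, mul_one, Algebra.mul_smul_comm, mul_one,
      TensorProduct.smul_tmul]

/-- Separation of `S ⊗ (A ⊗ A)` by pairs of forms. -/
theorem sum_ev₂ (z : S ⊗[R] (A ⊗[R] A)) :
    ∑ i, ∑ j, (TensorProduct.AlgebraTensorModule.rid R S S
      ((LinearMap.mul' R R ∘ₗ TensorProduct.map (φ i) (φ j)).baseChange S z)) • ((1 : S) ⊗ₜ[R] (b i ⊗ₜ[R] b j)) = z := by
  induction z using TensorProduct.induction_on with
  | zero => simp
  | add p q hp hq => simp only [map_add, add_smul, Finset.sum_add_distrib, hp, hq]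
  | tmul s w =>
    induction w using TensorProduct.induction_on with
    | zero => simp
    | add p q hp hq => simp only [TensorProduct.tmul_add, map_add, add_smul, Finset.sum_add_distrib, hp, hq]
    | tmul a a' =>
      conv_rhs => rw [← hb a, ← hb a', TensorProduct.sum_tmul, TensorProduct.tmul_sum]
      refine Finset.sum_congr rfl fun i _ => ?_
      rw [TensorProduct.tmul_sum, TensorProduct.tmul_sum]
      refine Finset.sum_congr rfl fun j _ => ?_
      rw [LinearMap.baseChange_tmul, LinearMap.comp_apply, TensorProduct.map_tmul, LinearMap.mul'_apply,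
        TensorProduct.AlgebraTensorModule.rid_tmul, TensorProduct.smul_tmul', smul_eq_mul, mul_one,
        TensorProduct.smul_tmul_smul, ← TensorProduct.smul_tmul]

end Frame

theorem ev_convMul (hι : IsDualAlg ι) (x y : D₀) (z : S ⊗[R] A) :
    ev S (ι (x * y)) z =
      TensorProduct.AlgebraTensorModule.rid R S S
        ((LinearMap.mul' R R ∘ₗ TensorProduct.map (ι x) (ι y)).baseChange S (D R A S z)) := by
  induction z using TensorProduct.induction_on with
  | zero => simp
  | add p q hp hq => simp only [map_add, hp, hq]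
  | tmul s a => simp [ev_tmul, D, hι.mul]

theorem pairing_J (x y : D₀) (p q : S ⊗[R] A) :
    TensorProduct.AlgebraTensorModule.rid R S S
        ((LinearMap.mul' R R ∘ₗ TensorProduct.map (ι x) (ι y)).baseChange S (J₁ R A S p * J₂ R A S q)) =
      ev S (ι x) p * ev S (ι y) q := by
  induction p using TensorProduct.induction_on with
  | zero => simp
  | add a b ha hb => simp only [map_add, add_mul, ha, hb]
  | tmul s a =>
    induction q using TensorProduct.induction_on with
    | zero => simp
    | add c d hc hd => simp only [map_add, mul_add, hc, hd]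
    | tmul t c =>
      simp only [J₁, J₂, Algebra.TensorProduct.map_tmul, AlgHom.id_apply, Algebra.TensorProduct.includeLeft_apply,
        Algebra.TensorProduct.includeRight_apply, Algebra.TensorProduct.tmul_mul_tmul, mul_one, one_mul,
        LinearMap.baseChange_tmul, LinearMap.comp_apply, TensorProduct.map_tmul, LinearMap.mul'_apply,
        TensorProduct.AlgebraTensorModule.rid_tmul, ev_tmul]
      rw [smul_mul_smul_comm]

theorem ev_one (hι : IsDualAlg ι) (z : S ⊗[R] A) : ev S (ι 1) z = ev1 R A S z := by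
  induction z using TensorProduct.induction_on with
  | zero => simp
  | add p q hp hq => simp only [map_add, hp, hq]
  | tmul s a => simp [ev_tmul, ev1, hι.one, Algebra.smul_def, mul_comm]

/-- Pairing with a group-like element is multiplicative. -/
theorem pair_mul (hι : IsDualAlg ι) {g : S ⊗[R] A} (hg : IsGL R A S g) (v w : S ⊗[R] D₀) :
    pair ι S (v * w) g = pair ι S v g * pair ι S w g := by
  induction v using TensorProduct.induction_on with
  | zero => simp
  | add a b ha hb => simp only [add_mul, map_add, LinearMap.add_apply, ha, hb]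
  | tmul s x =>
    induction w using TensorProduct.induction_on with
    | zero => simp
    | add c d hc hd => simp only [mul_add, map_add, LinearMap.add_apply, hc, hd]
    | tmul t y =>
      rw [Algebra.TensorProduct.tmul_mul_tmul, pair_tmul ι S, pair_tmul ι S, pair_tmul ι S, ev_convMul ι S hι, hg.1, pairing_J]
      ring

theorem pair_one (hι : IsDualAlg ι) {g : S ⊗[R] A} (hg : IsGL R A S g) : pair ι S (1 : S ⊗[R] D₀) g = 1 := by
  rw [Algebra.TensorProduct.one_def, pair_tmul ι S, one_mul, ev_one ι S hι]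
  exact hg.2

theorem etale_baseChange_of_split (hι : IsDualAlg ι) [Module.Finite R A] [Module.Projective R A]
    {M : Type u} [AddCommGroup M] (E : Split R A M S) : Algebra.Etale S (S ⊗[R] D₀) := by
  classical
  rcases subsingleton_or_nontrivial S with hS | hS
  · haveI := Algebra.IsFiniteSplit.of_subsingleton (R := S) (S := S ⊗[R] D₀)
    infer_instance
  haveI : Module.Finite S (S ⊗[R] A) := inferInstance
  haveI : Finite M := Module.Finite.finite_basis E.e
  haveI : Fintype M := Fintype.ofFinite M
  obtain ⟨n, b, φ, hb⟩ := exists_dualFrame R A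
  let Φl : S ⊗[R] D₀ →ₗ[S] (M → S) := LinearMap.pi fun m => (LinearMap.applyₗ (E.e m)) ∘ₗ pair ι S
  let Φ : S ⊗[R] D₀ →ₐ[S] (M → S) := AlgHom.ofLinearMap Φl
    (funext fun m => pair_one ι S hι (E.gl m)) (fun v w => funext fun m => pair_mul ι S hι (E.gl m) v w)
  have hinj : Function.Injective Φ := by
    refine (injective_iff_map_eq_zero Φ).2 fun w hw => ?_
    have h0 : pair ι S w = 0 := E.e.ext fun m => congrFun hw m
    rw [← sum_pair ι hb w, h0]
    simp
  have hsurj : Function.Surjective Φ := fun v => by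
    let h : S ⊗[R] A →ₗ[S] S := E.e.constr S v
    refine ⟨∑ i, h ((1 : S) ⊗ₜ[R] b i) • ((1 : S) ⊗ₜ[R] ι.symm (φ i)), funext fun m => ?_⟩
    show pair ι S _ (E.e m) = v m
    rw [show v m = h (E.e m) from (E.e.constr_basis S v m).symm]
    conv_rhs => rw [← sum_ev hb (E.e m), map_sum]
    rw [map_sum, LinearMap.sum_apply]
    refine Finset.sum_congr rfl fun i _ => ?_
    rw [map_smul, LinearMap.smul_apply, pair_tmul ι S, one_mul, map_smul, smul_eq_mul, smul_eq_mul, LinearEquiv.apply_symm_apply, mul_comm]
  exact .of_equiv (AlgEquiv.ofBijective Φ ⟨hinj, hsurj⟩).symm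

theorem etale_dual_of_split (hι : IsDualAlg ι) [Module.Finite R A] [Module.Projective R A]
    [Module.FaithfullyFlat R S] {M : Type u} [AddCommGroup M] (E : Split R A M S) : Algebra.Etale R D₀ := by
  haveI := etale_baseChange_of_split ι S hι E
  exact Algebra.Etale.of_etale_tensorProduct_of_faithfullyFlat S

/-- A split dual over a ring without idempotents gives a splitting. -/
theorem exists_split_of_isFiniteSplit (hι : IsDualAlg ι) [Module.Finite R A] [Module.Projective R A] [Nontrivial S]
    (hconn : ∀ e : S, IsIdempotentElem e → e = 0 ∨ e = 1) [hs : Algebra.IsFiniteSplit S (S ⊗[R] D₀)] :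
    ∃ (M : Type u) (_ : AddCommGroup M), Nonempty (Split R A M S) := by
  classical
  obtain ⟨d, ⟨ψ⟩⟩ := hs.nonempty_algEquiv_fun
  obtain ⟨n, b, φ, hb⟩ := exists_dualFrame R A
  let G := GroupLike S (S ⊗[R] A)
  have hgl : ∀ g : G, IsGL R A S g.val := fun g =>
    isGL_of_groupLike g.2.comul_eq_tmul_self g.2.counit_eq_one
  -- inverse of the pairing
  let inv : ((S ⊗[R] D₀) →ₗ[S] S) →ₗ[S] S ⊗[R] A :=
    { toFun := fun h => ∑ i, h ((1 : S) ⊗ₜ[R] ι.symm (φ i)) • ((1 : S) ⊗ₜ[R] b i)
      map_add' := fun h h' => by simp [add_smul, Finset.sum_add_distrib]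
      map_smul' := fun c h => by simp [mul_smul, Finset.smul_sum] }
  have hright : ∀ h w, pair ι S w (inv h) = h w := fun h w => by
    conv_rhs => rw [← sum_pair ι hb w, map_sum]
    show pair ι S w (∑ i, h ((1 : S) ⊗ₜ[R] ι.symm (φ i)) • ((1 : S) ⊗ₜ[R] b i)) = _
    rw [map_sum]
    refine Finset.sum_congr rfl fun i _ => ?_
    rw [map_smul, map_smul, smul_eq_mul, smul_eq_mul, mul_comm]
  have hleft : ∀ z, inv ((LinearMap.applyₗ z) ∘ₗ pair ι S) = z := fun z => by
    conv_rhs => rw [← sum_ev hb z]
    show ∑ i, ((LinearMap.applyₗ z) ∘ₗ pair ι S) ((1 : S) ⊗ₜ[R] ι.symm (φ i)) • ((1 : S) ⊗ₜ[R] b i) = _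
    refine Finset.sum_congr rfl fun i _ => ?_
    rw [LinearMap.comp_apply]
    show pair ι S ((1 : S) ⊗ₜ[R] ι.symm (φ i)) z • ((1 : S) ⊗ₜ[R] b i) = _
    rw [pair_tmul, LinearEquiv.apply_symm_apply, one_mul]
  -- the points
  let pr : Fin d → ((S ⊗[R] D₀) →ₐ[S] S) := fun i => (Pi.evalAlgHom S (fun _ => S) i).comp ψ.toAlgHom
  have hprgl : ∀ i, IsGroupLikeElem S (inv (pr i).toLinearMap) := fun i => by
    set h := pr i
    set z := inv h.toLinearMap
    have hp : ∀ w, pair ι S w z = h w := fun w => hright _ w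
    have h2 : ev1 R A S z = 1 := by
      rw [← ev_one ι S hι, ← one_mul (ev S _ z), ← pair_tmul ι S, ← Algebra.TensorProduct.one_def, hp, map_one]
    refine groupLike_of_isGL ⟨?_, h2⟩
    rw [← sum_ev₂ hb (D R A S z), ← sum_ev₂ hb (J₁ R A S z * J₂ R A S z)]
    refine Finset.sum_congr rfl fun i _ => Finset.sum_congr rfl fun j _ => ?_
    congr 1
    have e1 := ev_convMul ι S hι (ι.symm (φ i)) (ι.symm (φ j)) z
    have e2 := pairing_J ι S (ι.symm (φ i)) (ι.symm (φ j)) z z
    simp only [LinearEquiv.apply_symm_apply] at e1 e2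
    rw [← e1, e2]
    have := hp (((1 : S) ⊗ₜ[R] ι.symm (φ i)) * ((1 : S) ⊗ₜ[R] ι.symm (φ j)))
    rw [map_mul h, ← hp, ← hp, Algebra.TensorProduct.tmul_mul_tmul, pair_tmul ι S, pair_tmul ι S, pair_tmul ι S] at this
    simpa using this
  let g : Fin d → G := fun i => ⟨inv (pr i).toLinearMap, hprgl i⟩
  have hsurj : Function.Surjective g := fun x => by
    let h : (S ⊗[R] D₀) →ₐ[S] S :=
      AlgHom.ofLinearMap ((LinearMap.applyₗ x.val) ∘ₗ pair ι S) (pair_one ι S hι (hgl x)) (pair_mul ι S hι (hgl x))
    let h' : (Fin d → S) →ₐ[S] S := h.comp ψ.symm.toAlgHom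
    have hi : ∃ i, h' (Pi.single i 1) = 1 := by
      by_contra hne
      have h0 : ∀ i, h' (Pi.single i (1 : S)) = 0 := fun i =>
        (hconn _ ((show IsIdempotentElem (Pi.single i (1 : S) : Fin d → S) from by
          show (_ : Fin d → S) * _ = _
          rw [← Pi.single_mul, one_mul]).map h')).resolve_right fun e => hne ⟨i, e⟩
      have h1 : h' 1 = 0 := by
        rw [show (1 : Fin d → S) = ∑ i, Pi.single i (1 : S) from (Finset.univ_sum_single (1 : Fin d → S)).symm,
          map_sum]
        exact Finset.sum_eq_zero fun i _ => h0 i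
      rw [map_one] at h1
      exact one_ne_zero h1
    obtain ⟨i, hi⟩ := hi
    refine ⟨i, GroupLike.ext ?_⟩
    show inv (pr i).toLinearMap = x.val
    rw [← hleft x.val]
    congr 1
    refine LinearMap.ext fun w => ?_
    show ψ w i = h w
    have e : (Pi.single i 1 : Fin d → S) * ψ w = Pi.single i (ψ w i) := by
      funext j
      by_cases hj : j = i
      · subst hj; simp
      · simp [Pi.single_eq_of_ne hj]
    have e2 : Pi.single i (ψ w i) = (ψ w i) • (Pi.single i 1 : Fin d → S) := by
      rw [← Pi.single_smul, smul_eq_mul, mul_one]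
    have := congrArg h' e
    rw [map_mul, hi, one_mul, e2, map_smul, hi, smul_eq_mul, mul_one] at this
    refine this.symm.trans ?_
    show h (ψ.symm (ψ w)) = h w
    rw [ψ.symm_apply_apply]
  have hinj : Function.Injective g := fun i j hij => by
    by_contra hne
    have h1 : pr i = pr j := AlgHom.ext fun w => by
      have := congrArg (fun x : G => pair ι S w x.val) hij
      simpa only [g, hright, AlgHom.toLinearMap_apply] using this
    have h2 := DFunLike.congr_fun h1 (ψ.symm (Pi.single i 1))
    simp [pr, Pi.single_eq_of_ne (Ne.symm hne)] at h2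
  let eq : Fin d ≃ Additive G := (Equiv.ofBijective g ⟨hinj, hsurj⟩).trans Additive.ofMul
  let bl : Fin d → S ⊗[R] A := fun i => inv (pr i).toLinearMap
  have hli : LinearIndependent S bl := Fintype.linearIndependent_iff.2 fun c hc i => by
    have := congrArg (fun z => pair ι S (ψ.symm (Pi.single i 1)) z) hc
    simp only [map_sum, map_smul, bl, hright, AlgHom.toLinearMap_apply, map_zero] at this
    rw [Finset.sum_eq_single i (fun j _ hj => by simp [pr, Pi.single_eq_of_ne hj]) (by simp)] at this
    simpa [pr] using this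
  have hspan : ⊤ ≤ Submodule.span S (Set.range bl) := fun z _ => by
    have : (LinearMap.applyₗ z) ∘ₗ pair ι S = ∑ i, pair ι S (ψ.symm (Pi.single i 1)) z • (pr i).toLinearMap := by
      refine LinearMap.ext fun w => ?_
      have e : w = ∑ i, ψ w i • ψ.symm (Pi.single i 1) := by
        apply ψ.injective
        simp [map_sum, ← Pi.single_smul]
        exact (Finset.univ_sum_single _).symm
      conv_lhs => rw [e]
      simp [map_sum, pr, mul_comm]
    rw [← hleft z, this, map_sum]
    exact Submodule.sum_mem _ fun i _ => by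
      rw [map_smul]; exact Submodule.smul_mem _ _ (Submodule.subset_span ⟨i, rfl⟩)
  let B : Module.Basis (Additive G) S (S ⊗[R] A) := (Module.Basis.mk hli hspan).reindex eq
  have hB : ∀ a : Additive G, B a = (Additive.toMul a).val := fun a => by
    obtain ⟨i, rfl⟩ := eq.surjective a
    simp [B, bl, eq, g]
  exact ⟨Additive G, inferInstance, ⟨⟨B, by rw [hB]; rfl, fun a a' => by rw [hB, hB, hB]; rfl,
    fun a => by rw [hB]; exact hgl _⟩⟩⟩

end Groth.Agent.FinMult
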